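import Groth.Agent.Lib.ModLimH13.LocFree
import Groth.Agent.Lib.ModLimH13.Hom2
import Groth.Agent.Lib.ModM1.LocFree
import Groth.Agent.Lib.Twist.Pullback
import Groth.Agent.S4788
import Groth.Prelude.Def_PicLoc
import Mathlib.CategoryTheory.Limits.Types.Filtered

/-!
# The set of invertible classes commutes with limits with affine transition morphisms
-/

universe u

set_option autoImplicit false
set_option linter.style.haveILetI false
set_option backward.isDefEq.respectTransparency false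

open AlgebraicGeometry CategoryTheory Limits Opposite

noncomputable section

namespace Groth.Agent.LimShf14

theorem iso_of_cl_eq {Y : Scheme.{u}} {L M : Y.Modules} (h : PicF.cl L = PicF.cl M) :
    Nonempty (L ≅ M) := by
  have hr : Equivalence fun L L' : Y.Modules => Nonempty (L ≅ L') :=
    ⟨fun L => ⟨Iso.refl L⟩, fun ⟨e⟩ => ⟨e.symm⟩, fun ⟨e⟩ ⟨e'⟩ => ⟨e.trans e'⟩⟩
  exact hr.eqvGen_iff.1 (Quot.eqvGen_exact h)

theorem isFP_of_isInvertible {Y : Scheme.{u}} {L : Y.Modules} (h : PicF.IsInvertible L) :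
    CohB1.IsFP L :=
  ((M1.isFinLocFree_iff L).1 (M2.isFinLocFree_of_isInvertible h)).1

variable {I : Type u} [SmallCategory I] [IsCofiltered I] (D : I ⥤ Scheme.{u}) (c : Cone D)
  (hc : IsLimit c) [∀ (i j : I) (f : i ⟶ j), IsAffineHom (D.map f)] [∀ i, CompactSpace (D.obj i)]
  [∀ i, QuasiSeparatedSpace (D.obj i)]

include hc

theorem exists_picSet_rep (x : PicLoc.PicSet c.pt) :
    ∃ (i : I) (y : PicLoc.PicSet (D.obj i)), PicF.pullCl (c.π.app i) y.1 = x.1 := by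
  obtain ⟨L, hL, hinv⟩ := x.2
  haveI : Coh.IsQCoh L := M1.isFP_isQCoh (isFP_of_isInvertible hinv)
  obtain ⟨i₀⟩ := IsCofiltered.nonempty (C := I)
  obtain ⟨i, -, Fi, -, hFi, ⟨e⟩⟩ := Groth.Agent.S4788.result D c hc i₀ L (isFP_of_isInvertible hinv)
  have hrk : FlatMod.IsFinLocFreeOfRank 1 ((Scheme.Modules.pullback (c.π.app i)).obj Fi) :=
    M2.isFinLocFreeOfRank_of_iso e.symm ((M2.isInvertible_iff_isFinLocFreeOfRank_one L).1 hinv)
  obtain ⟨j, φ, hj⟩ := (ModLimH13.isFinLocFreeOfRank_iff_eventually hc hFi 1).1 hrk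
  refine ⟨j, ⟨PicF.cl ((Scheme.Modules.pullback (D.map φ)).obj Fi), _, rfl,
    (M2.isInvertible_iff_isFinLocFreeOfRank_one _).2 hj⟩, ?_⟩
  rw [← hL]
  exact Quot.sound ⟨(ModLimH13.cmp (c.π.app j) (D.map φ) (c.w φ)).app Fi ≪≫ e⟩

theorem exists_picSet_eq (i : I) (x y : PicLoc.PicSet (D.obj i))
    (h : PicF.pullCl (c.π.app i) x.1 = PicF.pullCl (c.π.app i) y.1) :
    ∃ (j : I) (φ : j ⟶ i), PicF.pullCl (D.map φ) x.1 = PicF.pullCl (D.map φ) y.1 := by
  obtain ⟨L, hL, hLinv⟩ := x.2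
  obtain ⟨M, hM, hMinv⟩ := y.2
  rw [← hL, ← hM] at h
  obtain ⟨e⟩ := iso_of_cl_eq h
  have hLfp := isFP_of_isInvertible hLinv
  have hMfp := isFP_of_isInvertible hMinv
  haveI : Coh.IsQCoh L := M1.isFP_isQCoh hLfp
  haveI : Coh.IsQCoh M := M1.isFP_isQCoh hMfp
  obtain ⟨j, φ, hj, hhj⟩ := ModLimH13.exists_hom_descend hc e.hom hLfp
  have hiso : IsIso ((Scheme.Modules.pullback (c.π.app j)).map hj) := by
    have h1 : (Scheme.Modules.pullback (c.π.app j)).map hj =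
        ((ModLimH13.cmp (c.π.app j) (D.map φ) (c.w φ)).app L).hom ≫ e.hom ≫
          ((ModLimH13.cmp (c.π.app j) (D.map φ) (c.w φ)).app M).inv := by
      rw [← hhj]; simp
    rw [h1]; infer_instance
  haveI : Coh.IsQCoh ((Scheme.Modules.pullback (D.map φ)).obj L) :=
    M1.isFP_isQCoh (M1.isFP_pullback _ hLfp)
  haveI : Coh.IsQCoh ((Scheme.Modules.pullback (D.map φ)).obj M) :=
    M1.isFP_isQCoh (M1.isFP_pullback _ hMfp)
  obtain ⟨k, ψ, hk⟩ := (ModLimH13.isIso_map_iff hc (M1.isFP_isFT (M1.isFP_pullback _ hLfp))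
    (M1.isFP_pullback _ hMfp) hj).1 hiso
  refine ⟨k, ψ ≫ φ, ?_⟩
  rw [← hL, ← hM]
  have w : D.map ψ ≫ D.map φ = D.map (ψ ≫ φ) := (D.map_comp _ _).symm
  exact Quot.sound ⟨((ModLimH13.cmp (D.map ψ) (D.map φ) w).app L).symm ≪≫
    @asIso _ _ _ _ ((Scheme.Modules.pullback (D.map ψ)).map hj) hk ≪≫
      (ModLimH13.cmp (D.map ψ) (D.map φ) w).app M⟩

/-- `Pic` commutes with limits with affine transition morphisms. -/
theorem nonempty_isColimit_invCl : Nonempty (IsColimit (PicLoc.invCl.mapCocone c.op)) := by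
  refine ⟨Types.FilteredColimit.isColimitOf' _ (PicLoc.invCl.mapCocone c.op) (fun x => ?_)
    (fun i x y h => ?_)⟩
  · obtain ⟨i, y, hy⟩ := exists_picSet_rep D c hc x
    exact ⟨op i, y, Subtype.ext hy.symm⟩
  · obtain ⟨j, φ, hφ⟩ := exists_picSet_eq D c hc i.unop x y (congrArg Subtype.val h)
    exact ⟨op j, φ.op, Subtype.ext hφ⟩

end Groth.Agent.LimShf14
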