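import Groth.Agent.Lib.LimShf14.Presentation
import Groth.Agent.Lib.AlgColimH13.Spec
import Groth.Agent.Lib.LimPres14.Rel

/-!
# The criterion for being locally of finite presentation by limits of affine schemes
-/

set_option autoImplicit false
set_option backward.isDefEq.respectTransparency false
set_option backward.defeqAttrib.useBackward true
set_option linter.style.haveILetI false

universe u

open CategoryTheory CategoryTheory.Limits AlgebraicGeometry Opposite

noncomputable section

namespace Groth.Agent.LimShf14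

variable {B : Scheme.{u}}

theorem exists_factor_over {I : Type u} [SmallCategory I] [IsCofiltered I] {D : I ⥤ Over B}
    {c : Cone D} (hc : IsLimit ((Over.forget B).mapCone c)) (hD : ∀ i, IsAffine (D.obj i).left)
    {i : I} {U Q : Over B} (u : D.obj i ⟶ U) (q : Q ⟶ U) [LocallyOfFinitePresentation q.left]
    (e : c.pt ⟶ Q) (he : e ≫ q = c.π.app i ≫ u) :
    ∃ (l : Over i) (z : D.obj l.left ⟶ Q), z ≫ q = D.map l.hom ≫ u ∧ c.π.app l.left ≫ z = e := by
  have hlim : IsLimit ((Over.forget U.left).mapCone (liftCone D u c)) :=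
    IsLimit.ofIsoLimit ((Functor.Initial.isLimitWhiskerEquiv (Over.forget i) _).symm hc)
      (Cone.ext (Iso.refl _) (fun l => by simp [liftCone]))
  haveI : LocallyOfFinitePresentation (Over.mk q.left).hom := ‹LocallyOfFinitePresentation q.left›
  obtain ⟨l, ψ, hψ⟩ := exists_factor hlim (fun l => hD l.left)
    (Over.homMk e.left (congrArg (fun t => t.left) he) : (liftCone D u c).pt ⟶ Over.mk q.left)
  have hq : ψ.left ≫ q.left = (D.map l.hom ≫ u).left := Over.w ψ
  refine ⟨l, Over.homMk ψ.left ?_, Over.OverMorphism.ext hq, Over.OverMorphism.ext ?_⟩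
  · rw [← Over.w q]
    exact (reassoc_of% hq) U.hom |>.trans (Over.w _)
  · exact congrArg (fun t => t.left) hψ

theorem exists_eq_over {I : Type u} [SmallCategory I] [IsCofiltered I] {D : I ⥤ Over B}
    {c : Cone D} (hc : IsLimit ((Over.forget B).mapCone c)) (hD : ∀ i, IsAffine (D.obj i).left)
    {i : I} {U Q : Over B} (q : Q ⟶ U) [LocallyOfFiniteType q.left] (a b : D.obj i ⟶ Q)
    (hq : a ≫ q = b ≫ q) (h : c.π.app i ≫ a = c.π.app i ≫ b) :
    ∃ (j : I) (e : j ⟶ i), D.map e ≫ a = D.map e ≫ b := by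
  have hlim : IsLimit ((Over.forget U.left).mapCone (liftCone D (a ≫ q) c)) :=
    IsLimit.ofIsoLimit ((Functor.Initial.isLimitWhiskerEquiv (Over.forget i) _).symm hc)
      (Cone.ext (Iso.refl _) (fun l => by simp [liftCone]))
  let l₀ : Over i := Over.mk (𝟙 i)
  haveI : LocallyOfFiniteType (Over.mk q.left).hom := ‹LocallyOfFiniteType q.left›
  obtain ⟨l, e, he⟩ := exists_stage_eq_of_lft hlim (fun l => hD l.left) (U := Over.mk q.left) (i := l₀)
    (Over.homMk a.left (by simp [liftSys, l₀]))
    (Over.homMk b.left (by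
      show b.left ≫ q.left = (D.map (𝟙 i) ≫ a ≫ q).left
      rw [hq]; simp))
    (Over.OverMorphism.ext (congrArg (fun t => t.left) h :))
  refine ⟨l.left, e.left, Over.OverMorphism.ext ?_⟩
  exact congrArg (fun t => t.left) he

open AlgSp in
/-- The criterion for a morphism of algebraic spaces to be locally of finite presentation. -/
theorem locP_lfp_of_lifting {S : Scheme.{u}} {X Y : AlgSp.Space S} (f : X ⟶ Y)
    (H : ∀ ⦃I : Type u⦄ [SmallCategory I] [IsCofiltered I] (D : I ⥤ Over S) (c : Cone D),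
      IsLimit ((Over.forget S).mapCone c) → (∀ i, IsAffine (D.obj i).left) → IsAffine c.pt.left →
      ∀ (x : (yon S).obj c.pt ⟶ X.obj) (i : I) (y : (yon S).obj (D.obj i) ⟶ Y.obj),
        x ≫ f.hom = (yon S).map (c.π.app i) ≫ y →
        ∃ (i' : I) (φ : i' ⟶ i) (x' : (yon S).obj (D.obj i') ⟶ X.obj),
          (yon S).map (c.π.app i') ≫ x' = x ∧ x' ≫ f.hom = (yon S).map (D.map φ) ≫ y) :
    LocP @LocallyOfFinitePresentation f.hom := by
  intro U V a b g hae hbe comm
  rw [HasRingHomProperty.iff_appLE (P := @LocallyOfFinitePresentation)]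
  intro V0 W hle
  letI algAB : Algebra Γ(V.left, V0.1) Γ(U.left, W.1) := (g.left.appLE V0.1 W.1 hle).hom.toAlgebra
  show Algebra.FinitePresentation Γ(V.left, V0.1) Γ(U.left, W.1)
  let AV := Γ(V.left, V0.1)
  let BW := Γ(U.left, W.1)
  have halg : CommRingCat.ofHom (algebraMap AV BW) = g.left.appLE V0.1 W.1 hle := rfl
  let ψ : Spec AV ⟶ S := V0.2.fromSpec ≫ V.hom
  let D : (AlgColimH13.Idx AV BW)ᵒᵖ ⥤ Over S := AlgColimH13.specDiag AV BW ψ
  let c : Cone D := AlgColimH13.specCone AV BW ψ
  haveI := IsCofiltered.isConnected (AlgColimH13.Idx AV BW)ᵒᵖ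
  have hc : IsLimit ((Over.forget S).mapCone c) :=
    isLimitOfPreserves (Over.forget S) (AlgColimH13.specIsLimit AV BW ψ)
  have hD : ∀ i, IsAffine (D.obj i).left := fun i => inferInstanceAs (IsAffine (Spec _))
  haveI hT : IsAffine c.pt.left := inferInstanceAs (IsAffine (Spec _))
  have hsq : Spec.map (g.left.appLE V0.1 W.1 hle) ≫ V0.2.fromSpec = W.2.fromSpec ≫ g.left :=
    V0.2.SpecMap_appLE_fromSpec g.left W.2 hle
  let jU : c.pt ⟶ U := Over.homMk W.2.fromSpec (by
    show W.2.fromSpec ≫ U.hom = Spec.map (CommRingCat.ofHom (algebraMap AV BW)) ≫ V0.2.fromSpec ≫ V.hom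
    rw [halg, reassoc_of% hsq, Over.w g])
  let jV : ∀ i, D.obj i ⟶ V := fun i =>
    Over.homMk (Spec.map (AlgColimH13.str AV BW i.unop) ≫ V0.2.fromSpec) (Category.assoc _ _ _)
  have hjV : ∀ {i j} (e : i ⟶ j), D.map e ≫ jV j = jV i := fun {i j} e => by
    ext
    show Spec.map _ ≫ Spec.map _ ≫ V0.2.fromSpec = Spec.map _ ≫ V0.2.fromSpec
    rw [← Spec.map_comp_assoc, AlgColimH13.str_map]
  have hπjV : ∀ i, c.π.app i ≫ jV i = jU ≫ g := fun i => by
    ext
    show Spec.map _ ≫ Spec.map _ ≫ V0.2.fromSpec = W.2.fromSpec ≫ g.left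
    rw [← Spec.map_comp_assoc, AlgColimH13.str_proj, halg, hsq]
  obtain ⟨i₀⟩ : Nonempty (AlgColimH13.Idx AV BW)ᵒᵖ := IsCofiltered.nonempty
  obtain ⟨i', φ, x', hx', hx'f⟩ := H D c hc hD hT ((yon S).map jU ≫ a) i₀ ((yon S).map (jV i₀) ≫ b) (by
    rw [Category.assoc, comm, ← Functor.map_comp_assoc, ← Functor.map_comp_assoc, hπjV])
  -- lift `x'` to the chart
  have sqX := hae.1.isPullback' x'
  have hsnd : Etale (hae.1.snd x').left := hae.2 x' _ _ (hae.1.isPullback x')
  haveI : LocallyOfFinitePresentation (hae.1.snd x').left := by haveI := hsnd; infer_instance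
  obtain ⟨e, he⟩ := (yon S).map_surjective
    (sqX.lift ((yon S).map jU) ((yon S).map (c.π.app i')) hx'.symm)
  obtain ⟨l, z, hz, hzπ⟩ := exists_factor_over hc hD (i := i') (𝟙 (D.obj i')) (hae.1.snd x') e
    ((yon S).map_injective (by rw [Functor.map_comp, he, sqX.lift_snd, Category.comp_id]))
  rw [Category.comp_id] at hz
  let u : D.obj l.left ⟶ U := z ≫ hae.1.fst' x'
  have hu : (yon S).map u ≫ a = (yon S).map (D.map l.hom) ≫ x' := by
    rw [Functor.map_comp, Category.assoc, sqX.w, ← Functor.map_comp_assoc, hz]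
  have hπu : c.π.app l.left ≫ u = jU := (yon S).map_injective (by
    rw [Functor.map_comp, Functor.map_comp, ← Functor.map_comp_assoc, hzπ, he, sqX.lift_fst])
  have hub : (yon S).map (u ≫ g) ≫ b = (yon S).map (jV l.left) ≫ b := by
    rw [Functor.map_comp, Category.assoc, ← comm, reassoc_of% hu, hx'f, ← Functor.map_comp_assoc,
      ← Functor.map_comp_assoc, ← D.map_comp, hjV]
  -- make it a morphism over the chart of the target
  obtain ⟨R, r₁, r₂, sqR⟩ := AlgSpace.representable_diag_iff.1 Y.property.diag b b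
  have hr₂ : Etale r₂.left :=
    (repWith_yon_map_iff @Etale r₂).1 (AlgSpace.repWith_of_isPullback sqR hbe)
  haveI : LocallyOfFiniteType r₂.left := by haveI := hr₂; infer_instance
  obtain ⟨c₁, hc₁⟩ := (yon S).map_surjective
    (sqR.lift ((yon S).map (u ≫ g)) ((yon S).map (jV l.left)) hub)
  obtain ⟨c₂, hc₂⟩ := (yon S).map_surjective
    (sqR.lift ((yon S).map (jV l.left)) ((yon S).map (jV l.left)) rfl)
  have h₁₁ : c₁ ≫ r₁ = u ≫ g := (yon S).map_injective (by rw [Functor.map_comp, hc₁, sqR.lift_fst])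
  have h₁₂ : c₁ ≫ r₂ = jV l.left := (yon S).map_injective (by rw [Functor.map_comp, hc₁, sqR.lift_snd])
  have h₂₁ : c₂ ≫ r₁ = jV l.left := (yon S).map_injective (by rw [Functor.map_comp, hc₂, sqR.lift_fst])
  have h₂₂ : c₂ ≫ r₂ = jV l.left := (yon S).map_injective (by rw [Functor.map_comp, hc₂, sqR.lift_snd])
  obtain ⟨m, e₁, hm⟩ := exists_eq_over hc hD r₂ c₁ c₂ (h₁₂.trans h₂₂.symm) ((yon S).map_injective (by
    apply sqR.hom_ext
    · rw [← Functor.map_comp, ← Functor.map_comp, Category.assoc, Category.assoc, h₁₁, h₂₁,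
        reassoc_of% hπu, hπjV]
    · rw [← Functor.map_comp, ← Functor.map_comp, Category.assoc, Category.assoc, h₁₂, h₂₂]))
  have hum : (D.map e₁ ≫ u) ≫ g = jV m := by
    rw [Category.assoc, ← h₁₁, reassoc_of% hm, h₂₁, hjV]
  -- factor through the affine open of the source
  haveI : LocallyOfFinitePresentation jU.left := by
    haveI : IsOpenImmersion jU.left := inferInstanceAs (IsOpenImmersion W.2.fromSpec)
    infer_instance
  obtain ⟨n, w, hw, hwπ⟩ := exists_factor_over hc hD (i := m) (D.map e₁ ≫ u) jU (𝟙 c.pt) (by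
    rw [Category.id_comp, c.w_assoc, hπu])
  have hstr : w.left ≫ Spec.map (g.left.appLE V0.1 W.1 hle) =
      Spec.map (AlgColimH13.str AV BW n.left.unop) := by
    rw [← cancel_mono V0.2.fromSpec, Category.assoc, hsq, ← Category.assoc]
    have := congrArg (fun t => t.left) (show (w ≫ jU) ≫ g = jV n.left by
      rw [hw, Category.assoc, hum, hjV])
    exact this
  let s : BW ⟶ (AlgColimH13.ringDiag AV BW).obj n.left.unop := Spec.preimage w.left
  have hs : g.left.appLE V0.1 W.1 hle ≫ s = AlgColimH13.str AV BW n.left.unop :=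
    Spec.map_injective (by rw [Spec.map_comp, Spec.map_preimage]; exact hstr)
  have hps : s ≫ AlgColimH13.proj AV BW n.left.unop = 𝟙 BW :=
    Spec.map_injective (by
      rw [Spec.map_comp, Spec.map_preimage, Spec.map_id]
      exact congrArg (fun t => t.left) hwπ)
  refine AlgColimH13.finitePresentation_of_retract n.left.unop.toB
    { toRingHom := s.hom, commutes' := fun r => RingHom.congr_fun (congrArg CommRingCat.Hom.hom hs) r }
    (fun x => RingHom.congr_fun (congrArg CommRingCat.Hom.hom hps) x)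

open AlgSp in
open Groth.Agent.AlgSpace (sect) in
/-- A relatively limit preserving morphism of algebraic spaces is locally of finite presentation. -/
theorem locP_of_isRelLimitPreserving {S : Scheme.{u}} {X Y : AlgSp.Space S} (f : X ⟶ Y)
    (hf : IsRelLimitPreserving f.hom.hom) : LocP @LocallyOfFinitePresentation f.hom := by
  refine locP_lfp_of_lifting f fun I _ _ D c hc hD hT x i y h => ?_
  obtain ⟨k, g, xk, h₁, h₂⟩ :=
    (LimPres14.crit_of_isRelLimitPreserving hf D c hc hD hT).1 i (sect y) (sect x) (by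
      rw [← GrothendieckTopology.uliftYonedaEquiv_comp, h,
        ← GrothendieckTopology.uliftYonedaEquiv_naturality]
      rfl)
  refine ⟨k, g, sect.symm xk, sect.injective ?_, sect.injective ?_⟩
  · rw [← GrothendieckTopology.uliftYonedaEquiv_naturality, Equiv.apply_symm_apply, h₂]
    rfl
  · rw [GrothendieckTopology.uliftYonedaEquiv_comp, Equiv.apply_symm_apply, h₁,
      ← GrothendieckTopology.uliftYonedaEquiv_naturality]

end Groth.Agent.LimShf14
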