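import Groth.Agent.Lib.LimShf14.Local

/-!
# Relatively limit preserving maps and sheafification
-/

set_option autoImplicit false
set_option backward.isDefEq.respectTransparency false
set_option backward.defeqAttrib.useBackward true
set_option linter.style.haveILetI false

universe u

open CategoryTheory CategoryTheory.Limits AlgebraicGeometry Opposite

noncomputable section

namespace Groth.Agent.LimShf14

variable {S : Scheme.{u}} {Pr : MorphismProperty Scheme.{u}}

theorem functorPullback_mem (T : Over S) (T' : Over T.left) {R : Sieve ((Over.map T.hom).obj T')}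
    (hR : R ∈ top Pr S ((Over.map T.hom).obj T')) :
    R.functorPullback (Over.map T.hom) ∈ top Pr T.left T' := by
  rw [GrothendieckTopology.mem_over_iff] at hR ⊢
  refine GrothendieckTopology.superset_covering _ ?_ hR
  intro Y f hf
  rw [Sieve.overEquiv_iff] at hf ⊢
  have h := R.downward_closed hf (Over.homMk (𝟙 _) (by simp) :
    (Over.map T.hom).obj (Over.mk (f ≫ T'.hom)) ⟶ Over.mk (f ≫ ((Over.map T.hom).obj T').hom))
  show R ((Over.map T.hom).map _)
  convert h using 1
  ext
  exact (Category.id_comp _).symm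

variable {F G : AlgSp.PSp S}

theorem map_map_eq (P : AlgSp.PSp S) {X Y Z : Over S} (f : Y ⟶ X) (g : Z ⟶ Y) (k : Z ⟶ X)
    (h : g ≫ f = k) (x : P.obj (op X)) : P.map g.op (P.map f.op x) = P.map k.op x := by
  rw [map_map, h]

theorem isSheaf_fiberFun (hF : Presheaf.IsSheaf (top Pr S) F) (hG : Presheaf.IsSheaf (top Pr S) G)
    (b : F ⟶ G) (T : Over S) (y : G.obj (op T)) :
    Presheaf.IsSheaf (top Pr T.left) (AlgSp.fiberFun b T y) := by
  have hF' : Presheaf.IsSheaf (top Pr T.left) ((Over.map T.hom).op ⋙ F) :=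
    Functor.op_comp_isSheaf (Over.map T.hom) (top Pr T.left) (top Pr S) ⟨F, hF⟩
  have hG' : Presheaf.IsSheaf (top Pr T.left) ((Over.map T.hom).op ⋙ G) :=
    Functor.op_comp_isSheaf (Over.map T.hom) (top Pr T.left) (top Pr S) ⟨G, hG⟩
  rw [isSheaf_iff_isSheaf_of_type] at hF' hG' ⊢
  intro X R hR x hx
  have hx' : Presieve.FamilyOfElements.Compatible (P := (Over.map T.hom).op ⋙ F)
      (fun Y f hf => (x f hf).1) := fun Y₁ Y₂ Z g₁ g₂ f₁ f₂ h₁ h₂ h => congrArg Subtype.val (hx g₁ g₂ h₁ h₂ h)
  obtain ⟨z, hz, hz'⟩ := hF' R hR _ hx'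
  have hbz : b.app _ z = G.map (AlgSp.overHom T X).op y := by
    refine (hG' R hR).isSeparatedFor.ext fun Y f hf => ?_
    show G.map ((Over.map T.hom).map f).op _ = G.map ((Over.map T.hom).map f).op _
    have h1 : b.app _ (F.map ((Over.map T.hom).map f).op z) =
        G.map ((Over.map T.hom).map f).op (b.app _ z) :=
      NatTrans.naturality_apply b ((Over.map T.hom).map f).op z
    have h2 : F.map ((Over.map T.hom).map f).op z = (x f hf).1 := hz f hf
    refine h1.symm.trans ((congrArg (b.app _) h2).trans ((x f hf).2.trans ?_))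
    exact (map_map_eq G _ _ _ (AlgSp.map_comp_overHom T f) y).symm
  refine ⟨⟨z, hbz⟩, fun Y f hf => Subtype.ext (hz f hf), fun z₀ hz₀ => Subtype.ext ?_⟩
  exact hz' z₀.1 fun Y f hf => congrArg Subtype.val (hz₀ f hf)

section Compare

variable {F' G' : AlgSp.PSp S} {ηF : F ⟶ F'} {ηG : G ⟶ G'} {a : F ⟶ G} {b : F' ⟶ G'}

/-- The map between fibres induced by a commutative square. -/
def fiberMap (comm : a ≫ ηG = ηF ≫ b) (T : Over S) (y : G.obj (op T)) :
    AlgSp.fiberFun a T y ⟶ AlgSp.fiberFun b T (ηG.app _ y) where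
  app X := ↾fun x => ⟨ηF.app _ x.1, by
    have h : b.app _ (ηF.app _ x.1) = ηG.app _ (a.app _ x.1) :=
      (types_congr_hom (NatTrans.congr_app comm _) x.1).symm
    rw [h, x.2]
    exact NatTrans.naturality_apply ηG (AlgSp.overHom T X.unop).op y⟩
  naturality X Y f := by
    ext x : 3
    apply Subtype.ext
    exact NatTrans.naturality_apply ηF ((Over.map T.hom).map f.unop).op x.1

theorem isLocallyInjective_fiberMap [Presheaf.IsLocallyInjective (top Pr S) ηF]
    (comm : a ≫ ηG = ηF ≫ b) (T : Over S) (y : G.obj (op T)) :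
    Presheaf.IsLocallyInjective (top Pr T.left) (fiberMap comm T y) := by
  constructor
  intro X x z h
  have h' : ηF.app (op ((Over.map T.hom).obj X.unop)) x.1 = ηF.app _ z.1 := congrArg Subtype.val h
  refine GrothendieckTopology.superset_covering _ ?_ (functorPullback_mem T X.unop
    (Presheaf.equalizerSieve_mem (top Pr S) ηF _ _ h'))
  intro Y f hf
  exact Subtype.ext hf

theorem isLocallySurjective_fiberMap [Presheaf.IsLocallyInjective (top Pr S) ηG]
    [Presheaf.IsLocallySurjective (top Pr S) ηF]
    (comm : a ≫ ηG = ηF ≫ b) (T : Over S) (y : G.obj (op T)) :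
    Presheaf.IsLocallySurjective (top Pr T.left) (fiberMap comm T y) := by
  constructor
  intro X s
  let R₁ := Presheaf.imageSieve ηF (U := (Over.map T.hom).obj X) s.1
  have hR₁ : R₁ ∈ top Pr S _ := Presheaf.imageSieve_mem (top Pr S) ηF s.1
  refine (top Pr T.left).transitive (functorPullback_mem T X hR₁) _ fun Y f hf => ?_
  obtain ⟨t, ht⟩ := hf
  have heq : ηG.app _ (a.app _ t) = ηG.app _ (G.map (AlgSp.overHom T Y).op y) := by
    have h1 : ηG.app _ (a.app _ t) = b.app _ (ηF.app _ t) := types_congr_hom (NatTrans.congr_app comm _) t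
    have h2 : b.app _ (F'.map ((Over.map T.hom).map f).op s.1) =
        G'.map ((Over.map T.hom).map f).op (b.app _ s.1) :=
      NatTrans.naturality_apply b ((Over.map T.hom).map f).op s.1
    have h3 : ηG.app _ (G.map (AlgSp.overHom T Y).op y) = G'.map (AlgSp.overHom T Y).op (ηG.app _ y) :=
      NatTrans.naturality_apply ηG (AlgSp.overHom T Y).op y
    rw [h1, ht]
    refine h2.trans ?_
    rw [s.2, map_map, AlgSp.map_comp_overHom]
    exact h3.symm
  refine GrothendieckTopology.superset_covering _ ?_ (functorPullback_mem T Y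
    (Presheaf.equalizerSieve_mem (F₁ := G) (top Pr S) ηG _ _ heq))
  intro Z g hg
  refine ⟨⟨F.map ((Over.map T.hom).map g).op t, ?_⟩, Subtype.ext ?_⟩
  · have h1 : a.app _ (F.map ((Over.map T.hom).map g).op t) =
        G.map ((Over.map T.hom).map g).op (a.app _ t) :=
      NatTrans.naturality_apply a ((Over.map T.hom).map g).op t
    rw [h1]
    refine hg.trans ?_
    rw [map_map, AlgSp.map_comp_overHom]
  · show ηF.app _ (F.map ((Over.map T.hom).map g).op t) = F'.map ((Over.map T.hom).map (g ≫ f)).op s.1
    have h1 : ηF.app _ (F.map ((Over.map T.hom).map g).op t) =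
        F'.map ((Over.map T.hom).map g).op (ηF.app _ t) :=
      NatTrans.naturality_apply ηF ((Over.map T.hom).map g).op t
    rw [h1, ht, map_map, ← Functor.map_comp]

end Compare

section Restrict

variable (b : F ⟶ G) (T : Over S) (y : G.obj (op T)) (U : Over T.left)

/-- The comparison of the two ways of regarding a scheme over `U` as a scheme over `S`. -/
def mapMapIso (W : Over U.left) :
    (Over.map T.hom).obj ((Over.map U.hom).obj W) ≅ (Over.map ((Over.map T.hom).obj U).hom).obj W :=
  Over.isoMk (Iso.refl _) (by simp)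

/-- The fibre restricted to `U` is the fibre over `U`. -/
def fiberFunRestrict :
    AlgSp.fiberFun b ((Over.map T.hom).obj U) (G.map (AlgSp.overHom T U).op y) ≅
      (Over.map U.hom).op ⋙ AlgSp.fiberFun b T y :=
  NatIso.ofComponents (fun W =>
    Equiv.toIso
      { toFun := fun x => ⟨F.map (mapMapIso T U W.unop).hom.op x.1, by
          refine (NatTrans.naturality_apply b (mapMapIso T U W.unop).hom.op x.1).trans ?_
          refine (congrArg (G.map (mapMapIso T U W.unop).hom.op) x.2).trans ?_
          refine (congrArg (G.map (mapMapIso T U W.unop).hom.op)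
            (map_map_eq G _ _ _ rfl y)).trans ?_
          exact map_map_eq G _ _ _ (Over.OverMorphism.ext (by simp [mapMapIso])) y⟩
        invFun := fun x => ⟨F.map (mapMapIso T U W.unop).inv.op x.1, by
          refine (NatTrans.naturality_apply b (mapMapIso T U W.unop).inv.op x.1).trans ?_
          refine (congrArg (G.map (mapMapIso T U W.unop).inv.op) x.2).trans ?_
          refine (map_map_eq G _ _ _ rfl y).trans ?_
          exact (map_map_eq G _ _ _ (Over.OverMorphism.ext (by simp [mapMapIso])) y).symm⟩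
        left_inv := fun x => Subtype.ext ((map_map_eq F _ _ (𝟙 _) (Iso.inv_hom_id _) x.1).trans (by simp))
        right_inv := fun x => Subtype.ext ((map_map_eq F _ _ (𝟙 _) (Iso.hom_inv_id _) x.1).trans (by simp)) })
    (fun {W W'} f => by
      ext x : 3
      apply Subtype.ext
      show F.map (mapMapIso T U W'.unop).hom.op (F.map ((Over.map ((Over.map T.hom).obj U).hom).map f.unop).op x.1) =
        F.map ((Over.map T.hom).map ((Over.map U.hom).map f.unop)).op (F.map (mapMapIso T U W.unop).hom.op x.1)
      refine (map_map_eq F _ _ _ rfl x.1).trans (map_map_eq F _ _ _ ?_ x.1).symm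
      exact Over.OverMorphism.ext (by simp [mapMapIso]))

end Restrict

/-- Sheafification preserves relatively limit preserving maps. -/
theorem isRelLimitPreserving_of_locallyBijective (hP : Good Pr) {F' G' : AlgSp.PSp S}
    (hF' : Presheaf.IsSheaf (top Pr S) F') (hG' : Presheaf.IsSheaf (top Pr S) G')
    {ηF : F ⟶ F'} {ηG : G ⟶ G'} [Presheaf.IsLocallyInjective (top Pr S) ηF]
    [Presheaf.IsLocallySurjective (top Pr S) ηF] [Presheaf.IsLocallyInjective (top Pr S) ηG]
    [Presheaf.IsLocallySurjective (top Pr S) ηG] {a : F ⟶ G} {b : F' ⟶ G'}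
    (comm : a ≫ ηG = ηF ≫ b) (ha : AlgSp.IsRelLimitPreserving a) :
    AlgSp.IsRelLimitPreserving b := by
  intro T y
  haveI := hP.mult
  haveI := hP.baseChange
  have hR := Presheaf.imageSieve_mem (top Pr S) ηG y
  rw [GrothendieckTopology.mem_over_iff,
    Precoverage.mem_toGrothendieck_iff_of_isStableUnderComposition] at hR
  obtain ⟨R', hR', hle⟩ := hR
  obtain ⟨κ, Y, f, rfl⟩ := R'.exists_eq_ofArrows
  obtain ⟨hsurj, hPrf⟩ := (Scheme.ofArrows_mem_precoverage_iff (P := Pr)).1 hR'
  choose a' ha' using hsurj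
  refine isLimitPreserving_of_cover (fun t : T.left => Over.mk (f (a' t))) hP
    (isSheaf_fiberFun hF' hG' b T y) (fun t => hPrf _) (fun t => ⟨t, ha' t⟩) fun t => ?_
  obtain ⟨y₀, hy₀⟩ : ∃ y₀ : G.obj (op ((Over.map T.hom).obj (Over.mk (f (a' t))))),
      ηG.app _ y₀ = G'.map (AlgSp.overHom T (Over.mk (f (a' t)))).op y :=
    (Sieve.overEquiv_iff _ _).1 (hle _ _ (Presieve.ofArrows.mk (a' t)))
  have hlp : AlgSp.IsLimitPreserving (AlgSp.fiberFun b ((Over.map T.hom).obj (Over.mk (f (a' t))))
      (G'.map (AlgSp.overHom T (Over.mk (f (a' t)))).op y)) := by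
    have he : G'.map (AlgSp.overHom T (Over.mk (f (a' t)))).op y = ηG.app _ y₀ := hy₀.symm
    rw [he]
    haveI := isLocallyInjective_fiberMap (Pr := Pr) comm ((Over.map T.hom).obj (Over.mk (f (a' t)))) y₀
    haveI := isLocallySurjective_fiberMap (Pr := Pr) comm ((Over.map T.hom).obj (Over.mk (f (a' t)))) y₀
    exact isLimitPreserving_of_locallyBijective hP (ha _ _) (isSheaf_fiberFun hF' hG' b _ _)
      (fiberMap comm _ y₀)
  exact hlp.of_iso (fiberFunRestrict b T y (Over.mk (f (a' t))))

/-- Sheafification of a relatively limit preserving map is relatively limit preserving. -/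
theorem isRelLimitPreserving_presheafToSheaf (hP : Good Pr)
    [HasWeakSheafify (top Pr S) (Type (u + 1))] (a : F ⟶ G) (ha : AlgSp.IsRelLimitPreserving a) :
    AlgSp.IsRelLimitPreserving ((presheafToSheaf (top Pr S) (Type (u + 1))).map a).hom :=
  isRelLimitPreserving_of_locallyBijective hP (ObjectProperty.FullSubcategory.property _)
    (ObjectProperty.FullSubcategory.property _) (ηF := toSheafify (top Pr S) F)
    (ηG := toSheafify (top Pr S) G) (toSheafify_naturality (top Pr S) a) ha

end Groth.Agent.LimShf14
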