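import Groth.Agent.Lib.LimShf14.Topologies

/-!
# Being limit preserving is local for the topology
-/

set_option autoImplicit false
set_option backward.isDefEq.respectTransparency false
set_option backward.defeqAttrib.useBackward true
set_option linter.style.haveILetI false

universe u

open CategoryTheory CategoryTheory.Limits AlgebraicGeometry Opposite

noncomputable section

namespace Groth.Agent.LimShf14

variable {S : Scheme.{u}}

theorem exists_factor {I : Type u} [SmallCategory I] [IsCofiltered I] {D : I ⥤ Over S} {c : Cone D}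
    (hc : IsLimit ((Over.forget S).mapCone c)) (hD : ∀ i, IsAffine (D.obj i).left) {U : Over S}
    [LocallyOfFinitePresentation U.hom] (φ : c.pt ⟶ U) :
    ∃ (i : I) (ψ : D.obj i ⟶ U), c.π.app i ≫ ψ = φ := by
  haveI : ∀ i, IsAffine ((D ⋙ Over.forget S).obj i) := hD
  haveI : ∀ {i j : I} (f : i ⟶ j), IsAffineHom ((D ⋙ Over.forget S).map f) := fun f => inferInstance
  obtain ⟨i, g, hg, hg'⟩ := Scheme.exists_π_app_comp_eq_of_locallyOfFinitePresentation
    (D ⋙ Over.forget S) ({ app := fun i => (D.obj i).hom } :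
      D ⋙ Over.forget S ⟶ (Functor.const I).obj S) U.hom ((Over.forget S).mapCone c) hc φ.left (by
      ext i; simp)
  exact ⟨i, Over.homMk g hg', Over.OverMorphism.ext hg⟩

variable {F : AlgSp.PSp S} {ι : Type u} (U : ι → Over S)

/-- The sections of `F` over the schemes mapping to some `U j`. -/
def locPart (F : AlgSp.PSp S) : AlgSp.PSp S where
  obj T := {_x : F.obj T // ∃ j, Nonempty (T.unop ⟶ U j)}
  map f := ↾fun x => ⟨F.map f x.1, by obtain ⟨j, ⟨g⟩⟩ := x.2; exact ⟨j, ⟨f.unop ≫ g⟩⟩⟩
  map_id T := by ext x : 3; apply Subtype.ext; simp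
  map_comp f g := by ext x : 3; apply Subtype.ext; simp

@[simp]
theorem locPart_map_coe {T T' : (Over S)ᵒᵖ} (f : T ⟶ T') (x : (locPart U F).obj T) :
    ((locPart U F).map f x).1 = F.map f x.1 := rfl

/-- The inclusion of `locPart`. -/
def locIncl (F : AlgSp.PSp S) : locPart U F ⟶ F where
  app T := ↾fun x => x.1

section Lift

variable {I : Type u} [SmallCategory I] (D : I ⥤ Over S) {i : I} {V : Over S} (φ : D.obj i ⟶ V)

/-- The system above `i`, over `V`. -/
def liftSys : Over i ⥤ Over V.left where
  obj l := Over.mk (D.map l.hom ≫ φ).left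
  map {l m} a := Over.homMk (D.map a.left).left (by
    show (D.map a.left).left ≫ (D.map m.hom ≫ φ).left = (D.map l.hom ≫ φ).left
    rw [← Over.comp_left, ← D.map_comp_assoc, Over.w])
  map_id l := by ext; simp
  map_comp a b := by ext; simp

/-- The cone over the system above `i`, over `V`. -/
def liftCone (c : Cone D) : Cone (liftSys D φ) where
  pt := Over.mk (c.π.app i ≫ φ).left
  π :=
    { app := fun l => Over.homMk (c.π.app l.left).left (by
        show (c.π.app l.left).left ≫ (D.map l.hom ≫ φ).left = (c.π.app i ≫ φ).left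
        rw [← Over.comp_left, c.w_assoc])
      naturality := fun l m a => by
        dsimp only [Functor.const_obj_obj, Functor.const_obj_map]
        rw [Category.id_comp]
        ext
        show (c.π.app m.left).left = (c.π.app l.left).left ≫ (D.map a.left).left
        rw [← Over.comp_left, c.w] }

/-- The comparison of the system over `V` with the system. -/
def liftIso (l : Over i) : (Over.map V.hom).obj ((liftSys D φ).obj l) ≅ D.obj l.left :=
  Over.isoMk (Iso.refl _) (by simp [liftSys])

/-- The comparison of the vertices. -/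
def liftPtIso (c : Cone D) : (Over.map V.hom).obj (liftCone D φ c).pt ≅ c.pt :=
  Over.isoMk (Iso.refl _) (by simp [liftCone, -Over.comp_left])

end Lift

theorem exists_rep_of_hom {I : Type u} [SmallCategory I] [IsCofiltered I] {D : I ⥤ Over S}
    {c : Cone D} {j : ι} (hloc : AlgSp.IsLimitPreserving ((Over.map (U j).hom).op ⋙ F))
    (hc : IsLimit ((Over.forget S).mapCone c)) (hD : ∀ i, IsAffine (D.obj i).left)
    (hT : IsAffine c.pt.left) {i : I} (φ : D.obj i ⟶ U j) :
    (∀ x : F.obj (op c.pt), ∃ (l : Over i) (y : F.obj (op (D.obj l.left))),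
      F.map (c.π.app l.left).op y = x) ∧
    ∀ x y : F.obj (op (D.obj i)), F.map (c.π.app i).op x = F.map (c.π.app i).op y →
      ∃ (l : Over i), F.map (D.map l.hom).op x = F.map (D.map l.hom).op y := by
  have hlim : IsLimit ((Over.forget (U j).left).mapCone (liftCone D φ c)) :=
    IsLimit.ofIsoLimit ((Functor.Initial.isLimitWhiskerEquiv (Over.forget i) _).symm hc)
      (Cone.ext (Iso.refl _) (fun l => by simp [liftCone]))
  obtain ⟨hcol⟩ := hloc (liftSys D φ) (liftCone D φ c) hlim (fun l => hD l.left) hT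
  have key : ∀ l : Over i, (Over.map (U j).hom).map ((liftCone D φ c).π.app l) ≫ (liftIso D φ l).hom =
      (liftPtIso D φ c).hom ≫ c.π.app l.left := fun l => by
    ext; simp [liftCone, liftIso, liftPtIso]
  refine ⟨fun x => ?_, fun x y h => ?_⟩
  · obtain ⟨l, y, hy⟩ := Types.jointly_surjective _ hcol (F.map (liftPtIso D φ c).hom.op x)
    refine ⟨l.unop, F.map (liftIso D φ l.unop).inv.op y, ?_⟩
    have h1 : c.π.app l.unop.left ≫ (liftIso D φ l.unop).inv =
        (liftPtIso D φ c).inv ≫ (Over.map (U j).hom).map ((liftCone D φ c).π.app l.unop) := by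
      rw [Iso.eq_inv_comp, ← Category.assoc, Iso.comp_inv_eq, key]
    rw [map_map, h1, ← map_map]
    refine (congrArg (F.map (liftPtIso D φ c).inv.op) hy).trans ?_
    rw [map_map, Iso.inv_hom_id, op_id, F.map_id]
    rfl
  · let l₀ : Over i := Over.mk (𝟙 i)
    let e : (Over.map (U j).hom).obj ((liftSys D φ).obj l₀) ⟶ D.obj i := (liftIso D φ l₀).hom
    obtain ⟨l, a, ha⟩ := (Types.FilteredColimit.isColimit_eq_iff' (i := op l₀) hcol
      (F.map e.op x) (F.map e.op y)).1 (by
        show F.map ((Over.map (U j).hom).map ((liftCone D φ c).π.app l₀)).op (F.map e.op x) =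
          F.map ((Over.map (U j).hom).map ((liftCone D φ c).π.app l₀)).op (F.map e.op y)
        rw [map_map, map_map, key l₀]
        show F.map ((liftPtIso D φ c).hom ≫ c.π.app i).op x = _
        exact ((map_map F (c.π.app i) (liftPtIso D φ c).hom x).symm.trans
          (congrArg (F.map (liftPtIso D φ c).hom.op) h)).trans
          (map_map F (c.π.app i) (liftPtIso D φ c).hom y))
    refine ⟨l.unop, ?_⟩
    have h2 : (Over.map (U j).hom).map ((liftSys D φ).map a.unop) ≫ e =
        (liftIso D φ l.unop).hom ≫ D.map l.unop.hom := by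
      ext
      show (D.map a.unop.left).left ≫ 𝟙 _ = 𝟙 _ ≫ (D.map l.unop.hom).left
      rw [Category.id_comp, Category.comp_id]
      have := Over.w a.unop
      simp [l₀] at this
      rw [this]
    have ha' : F.map ((Over.map (U j).hom).map ((liftSys D φ).map a.unop)).op (F.map e.op x) =
        F.map ((Over.map (U j).hom).map ((liftSys D φ).map a.unop)).op (F.map e.op y) := ha
    rw [map_map, map_map, h2] at ha'
    have := congrArg (F.map (liftIso D φ l.unop).inv.op) ha'
    rwa [map_map, map_map, Iso.inv_hom_id_assoc] at this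

theorem isLimitPreserving_locPart (hfp : ∀ j, LocallyOfFinitePresentation (U j).hom)
    (hloc : ∀ j, AlgSp.IsLimitPreserving ((Over.map (U j).hom).op ⋙ F)) :
    AlgSp.IsLimitPreserving (locPart U F) := by
  intro I _ _ D c hc hD hT
  refine ⟨Types.FilteredColimit.isColimitOf' _ ((locPart U F).mapCocone c.op) (fun x => ?_)
    (fun i x y h => ?_)⟩
  · obtain ⟨j, ⟨g⟩⟩ := x.2
    haveI := hfp j
    obtain ⟨i, φ, -⟩ := exists_factor hc hD g
    obtain ⟨l, y, hy⟩ := (exists_rep_of_hom U (hloc j) hc hD hT φ).1 x.1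
    exact ⟨op l.left, ⟨y, ⟨j, ⟨D.map l.hom ≫ φ⟩⟩⟩, Subtype.ext hy.symm⟩
  · obtain ⟨j, ⟨g⟩⟩ := x.2
    obtain ⟨l, hl⟩ := (exists_rep_of_hom U (hloc j) hc hD hT g).2 x.1 y.1 (congrArg Subtype.val h)
    exact ⟨op l.left, l.hom.op, Subtype.ext hl⟩

/-- A sheaf which is limit preserving locally on the base is limit preserving. -/
theorem isLimitPreserving_of_cover {Pr : MorphismProperty Scheme.{u}} (hP : Good Pr)
    (hF : Presheaf.IsSheaf (top Pr S) F) (hPr : ∀ j, Pr (U j).hom)
    (hsurj : ∀ s : S, ∃ j, s ∈ Set.range (U j).hom)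
    (hloc : ∀ j, AlgSp.IsLimitPreserving ((Over.map (U j).hom).op ⋙ F)) :
    AlgSp.IsLimitPreserving F := by
  haveI : Presheaf.IsLocallyInjective (top Pr S) (locIncl U F) :=
    Presheaf.isLocallyInjective_of_injective _ _ (fun T => fun x y h => Subtype.ext h)
  haveI : Presheaf.IsLocallySurjective (top Pr S) (locIncl U F) := ⟨fun {T} s => by
    let π : T ⟶ Over.mk (𝟙 S) := Over.homMk T.hom (by simp)
    refine GrothendieckTopology.superset_covering _ ?_ ((top Pr S).pullback_stable π
      (ofArrows_mem (Over.mk (𝟙 S)) U (fun j => Over.homMk (U j).hom (by simp)) hsurj hPr))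
    intro W f hf
    obtain ⟨_, r, _, ⟨j⟩, -⟩ := hf
    exact ⟨⟨F.map f.op s, ⟨j, ⟨r⟩⟩⟩, rfl⟩⟩
  exact isLimitPreserving_of_locallyBijective hP
    (isLimitPreserving_locPart U (fun j => hP.lfp _ (hPr j)) hloc) hF (locIncl U F)

end Groth.Agent.LimShf14
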