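import Groth.Agent.Lib.LimShf14.Fiber
import Groth.Agent.Lib.AlgSpace.LocP

/-!
# Morphisms locally of finite presentation are limit preserving
-/

set_option autoImplicit false
set_option backward.isDefEq.respectTransparency false
set_option backward.defeqAttrib.useBackward true
set_option linter.style.haveILetI false

universe u

open CategoryTheory CategoryTheory.Limits AlgebraicGeometry Opposite

noncomputable section

namespace Groth.Agent.LimShf14

variable {B : Scheme.{u}}

theorem exists_stage_eq_of_lft {I : Type u} [SmallCategory I] [IsCofiltered I] {D : I ⥤ Over B}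
    {c : Cone D} (hc : IsLimit ((Over.forget B).mapCone c)) (hD : ∀ i, IsAffine (D.obj i).left)
    {U : Over B} [LocallyOfFiniteType U.hom] {i : I} (a b : D.obj i ⟶ U)
    (h : c.π.app i ≫ a = c.π.app i ≫ b) : ∃ (j : I) (e : j ⟶ i), D.map e ≫ a = D.map e ≫ b := by
  haveI : ∀ i, IsAffine ((D ⋙ Over.forget B).obj i) := hD
  haveI : ∀ {i j : I} (f : i ⟶ j), IsAffineHom ((D ⋙ Over.forget B).map f) := fun f => inferInstance
  obtain ⟨k, e, e', he⟩ := Scheme.exists_hom_hom_comp_eq_comp_of_locallyOfFiniteType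
    (D ⋙ Over.forget B) ({ app := fun i => (D.obj i).hom } :
      D ⋙ Over.forget B ⟶ (Functor.const I).obj B) U.hom ((Over.forget B).mapCone c) hc
    a.left (Over.w a).symm b.left (Over.w b).symm (congrArg (fun t => t.left) h)
  let q := IsCofiltered.eqHom e e'
  refine ⟨_, q ≫ e, ?_⟩
  have he' : D.map e ≫ a = D.map e' ≫ b := Over.OverMorphism.ext he
  calc D.map (q ≫ e) ≫ a = D.map q ≫ D.map e' ≫ b := by rw [D.map_comp, Category.assoc, he']
    _ = D.map (q ≫ e) ≫ b := by rw [← D.map_comp_assoc, IsCofiltered.eq_condition]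

variable {F : AlgSp.PSp B} {U : Over B} (u₀ : F.obj (op U))

/-- The sections which are pulled back from `u₀`. -/
def imPart : AlgSp.PSp B where
  obj T := {x : F.obj T // ∃ a : T.unop ⟶ U, F.map a.op u₀ = x}
  map f := ↾fun x => ⟨F.map f x.1, by
    obtain ⟨a, ha⟩ := x.2
    exact ⟨f.unop ≫ a, (map_map F a f.unop u₀).symm.trans (congrArg (F.map f) ha)⟩⟩
  map_id T := by ext x : 3; apply Subtype.ext; simp
  map_comp f g := by ext x : 3; apply Subtype.ext; simp

/-- The inclusion. -/
def imIncl : imPart u₀ ⟶ F where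
  app T := ↾fun x => x.1

/-- A sheaf with a presentation by schemes locally of finite presentation is limit preserving. -/
theorem isLimitPreserving_of_presentation {Pr : MorphismProperty Scheme.{u}} (hP : Good Pr)
    (hF : Presheaf.IsSheaf (top Pr B) F) [LocallyOfFinitePresentation U.hom]
    (hcov : ∀ {T : Over B} (x : F.obj (op T)), ∃ (W : Over B) (q : W ⟶ T) (v : W ⟶ U),
      Pr q.left ∧ Surjective q.left ∧ F.map q.op x = F.map v.op u₀)
    {R : Over B} [LocallyOfFinitePresentation R.hom] (r₁ r₂ : R ⟶ U)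
    (hr : F.map r₁.op u₀ = F.map r₂.op u₀)
    (hrel : ∀ {T : Over B} (a b : T ⟶ U), F.map a.op u₀ = F.map b.op u₀ →
      ∃ c : T ⟶ R, c ≫ r₁ = a ∧ c ≫ r₂ = b) :
    AlgSp.IsLimitPreserving F := by
  haveI : Presheaf.IsLocallyInjective (top Pr B) (imIncl u₀) :=
    Presheaf.isLocallyInjective_of_injective _ _ (fun T => fun x y h => Subtype.ext h)
  haveI : Presheaf.IsLocallySurjective (top Pr B) (imIncl u₀) := ⟨fun {T} s => by
    obtain ⟨W, q, v, hq, hs, he⟩ := hcov s
    refine GrothendieckTopology.superset_covering _ ?_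
      (ofArrows_mem T (fun _ : PUnit.{u + 1} => W) (fun _ => q)
        (fun x => ⟨PUnit.unit, hs.surj x⟩) (fun _ => hq))
    intro Y f hf
    obtain ⟨_, r, _, ⟨-⟩, rfl⟩ := hf
    refine ⟨⟨F.map (r ≫ q).op s, ⟨r ≫ v, ?_⟩⟩, rfl⟩
    rw [← map_map, ← map_map, he]⟩
  refine isLimitPreserving_of_locallyBijective hP ?_ hF (imIncl u₀)
  intro I _ _ D c hc hD hT
  refine ⟨Types.FilteredColimit.isColimitOf' _ ((imPart u₀).mapCocone c.op) (fun x => ?_)
    (fun i x y h => ?_)⟩
  · obtain ⟨a, ha⟩ := x.2
    obtain ⟨i, φ, hφ⟩ := exists_factor hc hD a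
    refine ⟨op i, ⟨F.map φ.op u₀, φ, rfl⟩, Subtype.ext ?_⟩
    show x.1 = F.map (c.π.app i).op (F.map φ.op u₀)
    rw [map_map, hφ]
    exact ha.symm
  · obtain ⟨a, ha⟩ := x.2
    obtain ⟨b, hb⟩ := y.2
    have h' : F.map (c.π.app i.unop ≫ a).op u₀ = F.map (c.π.app i.unop ≫ b).op u₀ := by
      have := congrArg Subtype.val h
      refine (map_map F a (c.π.app i.unop) u₀).symm.trans
        ((congrArg (F.map (c.π.app i.unop).op) ha).trans (this.trans ?_))
      exact (congrArg (F.map (c.π.app i.unop).op) hb).symm.trans (map_map F b (c.π.app i.unop) u₀)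
    obtain ⟨z, hz₁, hz₂⟩ := hrel _ _ h'
    obtain ⟨j, ψ, hψ⟩ := exists_factor hc hD z
    obtain ⟨k, e, e', -⟩ : ∃ (k : I) (e : k ⟶ i.unop) (e' : k ⟶ j), True :=
      ⟨IsCofiltered.min i.unop j, IsCofiltered.minToLeft _ _, IsCofiltered.minToRight _ _, trivial⟩
    obtain ⟨l, g, hg⟩ := exists_stage_eq_of_lft hc hD (D.map e ≫ a) (D.map e' ≫ ψ ≫ r₁) (by
      rw [c.w_assoc, c.w_assoc, ← hz₁, ← hψ, Category.assoc])
    obtain ⟨m, g', hg'⟩ := exists_stage_eq_of_lft hc hD (D.map g ≫ D.map e ≫ b)
        (D.map g ≫ D.map e' ≫ ψ ≫ r₂) (by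
      rw [c.w_assoc, c.w_assoc, c.w_assoc, c.w_assoc, ← hz₂, ← hψ, Category.assoc])
    refine ⟨op m, ((g' ≫ g) ≫ e).op, Subtype.ext ?_⟩
    show F.map (D.map ((g' ≫ g) ≫ e)).op x.1 = F.map (D.map ((g' ≫ g) ≫ e)).op y.1
    rw [← ha, ← hb]
    refine (map_map F a (D.map ((g' ≫ g) ≫ e)) u₀).trans
      (Eq.trans ?_ (map_map F b (D.map ((g' ≫ g) ≫ e)) u₀).symm)
    have h1 : D.map ((g' ≫ g) ≫ e) ≫ a = (D.map (g' ≫ g) ≫ D.map e' ≫ ψ) ≫ r₁ := by
      rw [D.map_comp, D.map_comp, Category.assoc, Category.assoc, hg]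
      simp only [Category.assoc]
    have h2 : D.map ((g' ≫ g) ≫ e) ≫ b = (D.map (g' ≫ g) ≫ D.map e' ≫ ψ) ≫ r₂ := by
      rw [D.map_comp, D.map_comp, Category.assoc, Category.assoc, hg']
      simp only [Category.assoc]
    rw [h1, h2, ← map_map F r₁, ← map_map F r₂, hr]

open AlgSp in
open Groth.Agent.AlgSpace (sect) in
/-- A morphism of algebraic spaces locally of finite presentation is relatively limit preserving. -/
theorem isRelLimitPreserving_of_locP {S : Scheme.{u}} {X Y : AlgSp.Space S} (f : X ⟶ Y)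
    (hf : LocP @LocallyOfFinitePresentation f.hom) : IsRelLimitPreserving f.hom.hom := by
  intro T y
  let ξ : (yon S).obj T ⟶ Y.obj := sect.symm y
  have sqP := IsPullback.of_hasPullback f.hom ξ
  have hPsp := AlgSpace.isAlgSpace_pullback Y.property X.property (IsAlgSpace.yon_obj T) sqP
  obtain ⟨U₁, w, hwe, hws⟩ := hPsp.atlas
  obtain ⟨g, hg⟩ := (yon S).map_surjective (w ≫ pullback.snd f.hom ξ)
  have hglfp : LocallyOfFinitePresentation g.left :=
    AlgSpace.locP_of_isPullback X.property Y.property (IsAlgSpace.yon_obj T) sqP hf w (𝟙 _) g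
      hwe (repWith_id _ T) (by rw [Category.comp_id, hg])
  obtain ⟨R₁, r₁, r₂, sqR⟩ := AlgSpace.representable_diag_iff.1 hPsp.diag w w
  have hr₁ : Etale r₁.left := (repWith_yon_map_iff @Etale r₁).1 (AlgSpace.repWith_of_isPullback sqR.flip hwe)
  have hr12 : r₂ ≫ g = r₁ ≫ g := (yon S).map_injective (by
    rw [Functor.map_comp, Functor.map_comp, hg, reassoc_of% sqR.w])
  let U : Over T.left := Over.mk g.left
  let R : Over T.left := Over.mk (r₁.left ≫ g.left)
  haveI : LocallyOfFinitePresentation U.hom := hglfp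
  haveI : LocallyOfFinitePresentation R.hom := by
    show LocallyOfFinitePresentation (r₁.left ≫ g.left)
    haveI := hr₁; infer_instance
  let κ : (Over.map T.hom).obj U ⟶ U₁ := Over.homMk (𝟙 U₁.left) (by simp [U])
  have hκ : κ ≫ g = overHom T U := Over.OverMorphism.ext (Category.id_comp _)
  -- the section of the fibre at the chart
  let u₀ : (fiberFun f.hom.hom T y).obj (op U) :=
    ⟨sect ((yon S).map κ ≫ w ≫ pullback.fst f.hom ξ), by
      rw [← GrothendieckTopology.uliftYonedaEquiv_comp]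
      simp only [Category.assoc]
      rw [pullback.condition, ← reassoc_of% hg, ← Functor.map_comp_assoc, hκ,
        ← GrothendieckTopology.uliftYonedaEquiv_naturality]
      exact congrArg (Y.obj.obj.map (overHom T U).op) (Equiv.apply_symm_apply sect y)⟩
  have hsnd : ∀ {T' : Over T.left} (a : T' ⟶ U),
      (yon S).map ((Over.map T.hom).map a ≫ κ) ≫ w ≫ pullback.snd f.hom ξ = (yon S).map (overHom T T') := by
    intro T' a
    rw [← hg, ← Functor.map_comp]
    congr 1
    rw [Category.assoc, hκ, map_comp_overHom]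
  have hval : ∀ {T' : Over T.left} (a : T' ⟶ U),
      ((fiberFun f.hom.hom T y).map a.op u₀).1 =
        sect ((yon S).map ((Over.map T.hom).map a ≫ κ) ≫ w ≫ pullback.fst f.hom ξ) := by
    intro T' a
    show X.obj.obj.map ((Over.map T.hom).map a).op (sect ((yon S).map κ ≫ w ≫ pullback.fst f.hom ξ)) = _
    rw [GrothendieckTopology.uliftYonedaEquiv_naturality, Functor.map_comp, Category.assoc]
  refine isLimitPreserving_of_presentation (U := U) u₀ good_fppf
    (isSheaf_fiberFun X.obj.property Y.obj.property f.hom.hom T y) ?_ (R := R)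
    (Over.homMk r₁.left rfl) (Over.homMk r₂.left (congrArg (fun t => t.left) hr12)) ?_ ?_
  · intro T' x
    let ξ' : (yon S).obj ((Over.map T.hom).obj T') ⟶ pullback f.hom ξ :=
      pullback.lift (sect.symm x.1) ((yon S).map (overHom T T')) (sect.injective (by
        rw [GrothendieckTopology.uliftYonedaEquiv_comp, Equiv.apply_symm_apply,
          ← GrothendieckTopology.uliftYonedaEquiv_naturality, Equiv.apply_symm_apply]
        exact x.2))
    have sq := hwe.1.isPullback ξ'
    have hqe : Etale (hwe.1.snd ξ').left := hwe.2 ξ' _ _ sq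
    have hqs : Surjective (hwe.1.snd ξ').left := hws.2 ξ' _ _ sq
    obtain ⟨v, hv⟩ := (yon S).map_surjective (hwe.1.fst ξ')
    have hvg : v ≫ g = hwe.1.snd ξ' ≫ overHom T T' := (yon S).map_injective (by
      rw [Functor.map_comp, hg, hv, ← Category.assoc, sq.w, Category.assoc, Functor.map_comp]
      congr 1
      exact pullback.lift_snd _ _ _)
    refine ⟨Over.mk ((hwe.1.snd ξ').left ≫ T'.hom), Over.homMk (hwe.1.snd ξ').left rfl,
      Over.homMk v.left (congrArg (fun t => t.left) hvg), ?_, hqs, Subtype.ext ?_⟩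
    · haveI := hqe
      exact ⟨(inferInstance : Flat (hwe.1.snd ξ').left),
        (inferInstance : LocallyOfFinitePresentation (hwe.1.snd ξ').left)⟩
    · let ι : (Over.map T.hom).obj (Over.mk ((hwe.1.snd ξ').left ≫ T'.hom)) ⟶ hwe.1.pullback ξ' :=
        Over.homMk (𝟙 _) (by
          show 𝟙 _ ≫ (hwe.1.pullback ξ').hom = ((hwe.1.snd ξ').left ≫ T'.hom) ≫ T.hom
          rw [Category.id_comp, Category.assoc]
          exact (Over.w (hwe.1.snd ξ')).symm)
      have e1 : (Over.map T.hom).map (Over.homMk (hwe.1.snd ξ').left rfl :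
          Over.mk ((hwe.1.snd ξ').left ≫ T'.hom) ⟶ T') = ι ≫ hwe.1.snd ξ' :=
        Over.OverMorphism.ext (Category.id_comp _).symm
      have e2 : (Over.map T.hom).map (Over.homMk v.left (congrArg (fun t => t.left) hvg) :
          Over.mk ((hwe.1.snd ξ').left ≫ T'.hom) ⟶ U) ≫ κ = ι ≫ v :=
        Over.OverMorphism.ext ((Category.comp_id _).trans (Category.id_comp _).symm)
      rw [hval, e2, Functor.map_comp, hv, Category.assoc, reassoc_of% sq.w,
        ← Functor.map_comp_assoc, ← e1]
      show X.obj.obj.map _ x.1 = _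
      rw [← GrothendieckTopology.uliftYonedaEquiv_naturality]
      exact congrArg (X.obj.obj.map _) ((congrArg sect (pullback.lift_fst _ _ _)).trans
        (Equiv.apply_symm_apply sect x.1)).symm
  · apply Subtype.ext
    rw [hval, hval]
    let ι : (Over.map T.hom).obj R ⟶ R₁ := Over.homMk (𝟙 _) (by
      show 𝟙 _ ≫ R₁.hom = (r₁.left ≫ g.left) ≫ T.hom
      rw [Category.id_comp, Category.assoc, Over.w, Over.w])
    have e1 : (Over.map T.hom).map (Over.homMk r₁.left rfl : R ⟶ U) ≫ κ = ι ≫ r₁ :=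
      Over.OverMorphism.ext ((Category.comp_id _).trans (Category.id_comp _).symm)
    have e2 : (Over.map T.hom).map (Over.homMk r₂.left (congrArg (fun t => t.left) hr12) : R ⟶ U) ≫ κ =
        ι ≫ r₂ := Over.OverMorphism.ext ((Category.comp_id _).trans (Category.id_comp _).symm)
    rw [e1, e2, Functor.map_comp, Functor.map_comp, Category.assoc, Category.assoc, reassoc_of% sqR.w]
  · intro T' a b h
    have h1 := (hval a).symm.trans ((congrArg Subtype.val h).trans (hval b))
    have h2 : (yon S).map ((Over.map T.hom).map a ≫ κ) ≫ w = (yon S).map ((Over.map T.hom).map b ≫ κ) ≫ w := by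
      apply pullback.hom_ext
      · rw [Category.assoc, Category.assoc]; exact sect.injective h1
      · rw [Category.assoc, Category.assoc, hsnd a, hsnd b]
    obtain ⟨c, hc⟩ := (yon S).map_surjective (sqR.lift _ _ h2)
    have hc₁ : c ≫ r₁ = (Over.map T.hom).map a ≫ κ := (yon S).map_injective (by
      rw [Functor.map_comp, hc, sqR.lift_fst])
    have hc₂ : c ≫ r₂ = (Over.map T.hom).map b ≫ κ := (yon S).map_injective (by
      rw [Functor.map_comp, hc, sqR.lift_snd])
    have ha : c.left ≫ r₁.left = a.left :=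
      (congrArg (fun t => t.left) hc₁).trans (Category.comp_id _)
    have hb : c.left ≫ r₂.left = b.left :=
      (congrArg (fun t => t.left) hc₂).trans (Category.comp_id _)
    exact ⟨Over.homMk c.left (by
        show c.left ≫ r₁.left ≫ g.left = T'.hom
        rw [reassoc_of% ha]; exact Over.w a),
      Over.OverMorphism.ext ha, Over.OverMorphism.ext hb⟩

end Groth.Agent.LimShf14
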