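import Groth.Agent.Lib.LimShf14.Stage

/-!
# Sheafification of limit preserving presheaves is limit preserving

If `η : F ⟶ G` is locally bijective, `G` is a sheaf and `F` is limit preserving, so is `G`.
-/

set_option autoImplicit false
set_option backward.isDefEq.respectTransparency false
set_option backward.defeqAttrib.useBackward true
set_option linter.style.haveILetI false

universe u

open CategoryTheory CategoryTheory.Limits AlgebraicGeometry Opposite

noncomputable section

namespace Groth.Agent.LimShf14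

variable {S : Scheme.{u}} {Pr : MorphismProperty Scheme.{u}}
variable {F G : AlgSp.PSp S} {η : F ⟶ G}

theorem ext_of_mem (hG : Presheaf.IsSheaf (top Pr S) G) {X : Over S} {R : Sieve X}
    (hR : R ∈ top Pr S X) {s t : G.obj (op X)}
    (h : ∀ ⦃Y : Over S⦄ (f : Y ⟶ X), R f → G.map f.op s = G.map f.op t) : s = t :=
  (((isSheaf_iff_isSheaf_of_type _ G).1 hG) R hR).isSeparatedFor.ext h

theorem ext_of_cover (hG : Presheaf.IsSheaf (top Pr S) G) {X : Over S} {ι : Type u} {W : ι → Over S}
    {w : ∀ a, W a ⟶ X} (hw : Sieve.ofArrows W w ∈ top Pr S X) {s t : G.obj (op X)}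
    (h : ∀ a, G.map (w a).op s = G.map (w a).op t) : s = t := by
  refine ext_of_mem hG hw fun Y f hf => ?_
  obtain ⟨_, r, _, ⟨a⟩, rfl⟩ := hf
  rw [op_comp, Functor.map_comp_apply, Functor.map_comp_apply, h]

theorem map_map {X Y Z : Over S} (P : AlgSp.PSp S) (f : Y ⟶ X) (g : Z ⟶ Y) (x : P.obj (op X)) :
    P.map g.op (P.map f.op x) = P.map (g ≫ f).op x := by
  rw [op_comp, Functor.map_comp_apply]

theorem app_map {X Y : Over S} (f : Y ⟶ X) (x : F.obj (op X)) :
    η.app (op Y) (F.map f.op x) = G.map f.op (η.app (op X) x) :=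
  NatTrans.naturality_apply η f.op x

theorem exists_common {I : Type u} [SmallCategory I] [IsCofiltered I] {κ : Type u} [Finite κ]
    (m : κ → I) : ∃ k : I, ∀ a, Nonempty (k ⟶ m a) := by
  classical
  haveI := Fintype.ofFinite κ
  obtain ⟨k, hk⟩ := IsCofiltered.inf_objs_exists (Finset.univ.image m)
  exact ⟨k, fun a => hk (Finset.mem_image_of_mem m (Finset.mem_univ a))⟩

variable {I : Type u} [SmallCategory I] [IsCofiltered I] {D : I ⥤ Over S} {c : Cone D}

theorem exists_eq_of_colimit (hF : AlgSp.IsLimitPreserving F)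
    (hc : IsLimit ((Over.forget S).mapCone c)) (hD : ∀ i, IsAffine (D.obj i).left)
    (hT : IsAffine c.pt.left) {i : I} (x y : F.obj (op (D.obj i)))
    (h : F.map (c.π.app i).op x = F.map (c.π.app i).op y) :
    ∃ (j : I) (a : j ⟶ i), F.map (D.map a).op x = F.map (D.map a).op y := by
  obtain ⟨hcol⟩ := hF D c hc hD hT
  obtain ⟨j, a, ha⟩ := (Types.FilteredColimit.isColimit_eq_iff' hcol x y).1 h
  exact ⟨j.unop, a.unop, ha⟩

theorem exists_rep_of_colimit (hF : AlgSp.IsLimitPreserving F)
    (hc : IsLimit ((Over.forget S).mapCone c)) (hD : ∀ i, IsAffine (D.obj i).left)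
    (hT : IsAffine c.pt.left) (x : F.obj (op c.pt)) :
    ∃ (i : I) (y : F.obj (op (D.obj i))), F.map (c.π.app i).op y = x := by
  obtain ⟨hcol⟩ := hF D c hc hD hT
  obtain ⟨i, y, hy⟩ := Types.jointly_surjective _ hcol x
  exact ⟨i.unop, y, hy⟩

/-- Elements of `F` with the same image in `G` at the limit have the same image in `G` at a member. -/
theorem exists_app_eq (hP : Good Pr) (hF : AlgSp.IsLimitPreserving F)
    (hG : Presheaf.IsSheaf (top Pr S) G) [Presheaf.IsLocallyInjective (top Pr S) η]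
    (hc : IsLimit ((Over.forget S).mapCone c)) (hD : ∀ i, IsAffine (D.obj i).left)
    (hT : IsAffine c.pt.left) {i₀ : I} (x y : F.obj (op (D.obj i₀)))
    (h : G.map (c.π.app i₀).op (η.app _ x) = G.map (c.π.app i₀).op (η.app _ y)) :
    ∃ (j : I) (a : j ⟶ i₀),
      G.map (D.map a).op (η.app _ x) = G.map (D.map a).op (η.app _ y) := by
  classical
  let R : Sieve c.pt := Presheaf.equalizerSieve (F := F) (X := op c.pt) (F.map (c.π.app i₀).op x) (F.map (c.π.app i₀).op y)
  have hR : R ∈ top Pr S c.pt := by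
    refine Presheaf.equalizerSieve_mem (F₁ := F) (X := op c.pt) (top Pr S) η
      (F.map (c.π.app i₀).op x) (F.map (c.π.app i₀).op y) ?_
    exact ((app_map (c.π.app i₀) x).trans h).trans (app_map (c.π.app i₀) y).symm
  obtain ⟨i, κ, _, V, v, hVa, hv, hcov, hRv⟩ := exists_stage_cover hP D c hc hD hT R hR
  let i₁ := IsCofiltered.min i i₀
  let e : i₁ ⟶ i := IsCofiltered.minToLeft i i₀
  let e₀ : i₁ ⟶ i₀ := IsCofiltered.minToRight i i₀
  let l₀ : Over i := Over.mk e
  have key : ∀ k, ∃ l : Over l₀,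
      F.map ((stage D (v k)).map l.hom ≫ stageSnd D (v k) l₀ ≫ D.map e₀).op x =
        F.map ((stage D (v k)).map l.hom ≫ stageSnd D (v k) l₀ ≫ D.map e₀).op y := by
    intro k
    obtain ⟨m, a, ha⟩ := exists_eq_of_colimit (i := l₀) hF (stageIsLimit D c (v k) hc)
      (fun l => isAffine_stage D (v k) (hVa k) hD l) (isAffine_limPt D c (v k) (hVa k) hD hT)
      (F.map (stageSnd D (v k) l₀ ≫ D.map e₀).op x) (F.map (stageSnd D (v k) l₀ ≫ D.map e₀).op y) (by
        rw [map_map, map_map, stageCone_snd_assoc, c.w, ← map_map, ← map_map]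
        exact hRv k)
    refine ⟨Over.mk a, ?_⟩
    rw [map_map, map_map] at ha
    exact ha
  choose l hl using key
  obtain ⟨m, hm⟩ := exists_common l
  refine ⟨m.left.left, m.hom.left ≫ e₀, ext_of_cover hG (stageSnd_cover D hP v hv hcov m.left) fun k => ?_⟩
  obtain ⟨b⟩ := hm k
  have hb : stageSnd D (v k) m.left ≫ D.map (m.hom.left ≫ e₀) =
      (stage D (v k)).map b.left ≫ (stage D (v k)).map (l k).hom ≫ stageSnd D (v k) l₀ ≫ D.map e₀ := by
    rw [← Functor.map_comp_assoc, Over.w b, stage_map_snd_assoc, ← D.map_comp]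
  rw [map_map, map_map, hb, ← map_map G _ ((stage D (v k)).map b.left),
    ← map_map G _ ((stage D (v k)).map b.left), ← app_map, ← app_map, ← app_map, ← app_map]
  exact congrArg (fun z => η.app _ (F.map ((stage D (v k)).map b.left).op z)) (hl k)

/-- Sections of `G` at a member equal at the limit are equal at a member. -/
theorem exists_eq (hP : Good Pr) (hF : AlgSp.IsLimitPreserving F)
    (hG : Presheaf.IsSheaf (top Pr S) G) [Presheaf.IsLocallyInjective (top Pr S) η]
    [Presheaf.IsLocallySurjective (top Pr S) η]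
    (hc : IsLimit ((Over.forget S).mapCone c)) (hD : ∀ i, IsAffine (D.obj i).left)
    (hT : IsAffine c.pt.left) (i : I) (s t : G.obj (op (D.obj i)))
    (h : G.map (c.π.app i).op s = G.map (c.π.app i).op t) :
    ∃ (j : I) (a : j ⟶ i), G.map (D.map a).op s = G.map (D.map a).op t := by
  classical
  haveI := hD i
  obtain ⟨κ, _, V, v, hv', hVa, hv, hcov⟩ := exists_finite_of_mem hP (D.obj i)
    (Presheaf.imageSieve η s ⊓ Presheaf.imageSieve η t)
    ((top Pr S).intersection_covering (Presheaf.imageSieve_mem _ η s) (Presheaf.imageSieve_mem _ η t))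
  choose a ha using fun k => (hv' k).1
  choose b hb using fun k => (hv' k).2
  let l₀ : Over i := Over.mk (𝟙 i)
  have key : ∀ k, ∃ (l : Over i),
      G.map (stageFst D (v k) l).op (η.app _ (a k)) = G.map (stageFst D (v k) l).op (η.app _ (b k)) := by
    intro k
    obtain ⟨l, e, he⟩ := exists_app_eq (i₀ := l₀) hP hF hG (η := η) (stageIsLimit D c (v k) hc)
      (fun l => isAffine_stage D (v k) (hVa k) hD l) (isAffine_limPt D c (v k) (hVa k) hD hT)
      (F.map (stageFst D (v k) l₀).op (a k)) (F.map (stageFst D (v k) l₀).op (b k)) (by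
        rw [app_map, app_map, map_map, map_map, stageCone_fst, ha, hb, map_map, map_map, limFst_comp,
          ← map_map, ← map_map]
        exact congrArg (G.map (limSnd D c (v k)).op) h)
    refine ⟨l, ?_⟩
    rw [app_map, app_map, map_map, map_map, stage_map_fst] at he
    exact he
  choose l hl using key
  obtain ⟨m, hm⟩ := exists_common l
  refine ⟨m.left, m.hom, ext_of_cover hG (stageSnd_cover D hP v hv hcov m) fun k => ?_⟩
  obtain ⟨f⟩ := hm k
  rw [map_map, map_map, ← stageFst_comp, ← map_map, ← map_map, ← ha, ← hb,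
    ← stage_map_fst D (v k) f, ← map_map, ← map_map, hl k]

/-- Every section of `G` at the limit comes from a member. -/
theorem exists_rep (hP : Good Pr) (hF : AlgSp.IsLimitPreserving F)
    (hG : Presheaf.IsSheaf (top Pr S) G) [Presheaf.IsLocallyInjective (top Pr S) η]
    [Presheaf.IsLocallySurjective (top Pr S) η]
    (hc : IsLimit ((Over.forget S).mapCone c)) (hD : ∀ i, IsAffine (D.obj i).left)
    (hT : IsAffine c.pt.left) (s : G.obj (op c.pt)) :
    ∃ (i : I) (t : G.obj (op (D.obj i))), G.map (c.π.app i).op t = s := by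
  classical
  obtain ⟨i, κ, _, V, v, hVa, hv, hcov, hRv⟩ := exists_stage_cover hP D c hc hD hT
    (Presheaf.imageSieve η s) (Presheaf.imageSieve_mem _ η s)
  choose x hx using hRv
  choose l a hla using fun k => exists_rep_of_colimit hF (stageIsLimit D c (v k) hc)
      (fun l => isAffine_stage D (v k) (hVa k) hD l) (isAffine_limPt D c (v k) (hVa k) hD hT) (x k)
  obtain ⟨m, hm⟩ := exists_common l
  let f : ∀ k, m ⟶ l k := fun k => (hm k).some
  let W : κ → Over S := fun k => (stage D (v k)).obj m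
  let w : ∀ k, W k ⟶ D.obj m.left := fun k => stageSnd D (v k) m
  obtain ⟨A, hAdef⟩ : ∃ A : ∀ k, F.obj (op (W k)),
      ∀ k, A k = F.map ((stage D (v k)).map (f k)).op (a k) := ⟨_, fun _ => rfl⟩
  have hW : ∀ k, IsAffine (W k).left := fun k => isAffine_stage D (v k) (hVa k) hD m
  have hw : ∀ k, Pr (w k).left := fun k => by
    haveI := hP.baseChange
    exact MorphismProperty.pullback_snd _ _ (hv k)
  have hA : ∀ (k) (T : Over S) (p : T ⟶ W k) (b : T ⟶ c.pt), p ≫ w k = b ≫ c.π.app m.left →
      G.map p.op (η.app _ (A k)) = G.map b.op s := by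
    intro k T p b hpb
    obtain ⟨r, hr₁, hr₂⟩ := exists_lim_lift D c (v k) (p ≫ stageFst D (v k) m) b (by
      rw [Category.assoc, stageFst_comp, ← Category.assoc]
      show (p ≫ w k) ≫ _ = _
      rw [hpb, Category.assoc, c.w])
    have hp : p = r ≫ (stageCone D c (v k)).π.app m := by
      apply stage_hom_ext
      · rw [Category.assoc, stageCone_fst, hr₁]
      · rw [Category.assoc, stageCone_snd, reassoc_of% hr₂]; exact hpb
    rw [hp, ← map_map, hAdef, app_map]
    refine (congrArg (G.map r.op) (map_map G _ _ _)).trans ?_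
    rw [(stageCone D c (v k)).w (f k)]
    refine (congrArg (G.map r.op) (app_map ((stageCone D c (v k)).π.app (l k)) (a k)).symm).trans ?_
    refine (congrArg (fun z => G.map r.op (η.app _ z)) (hla k)).trans ?_
    refine (congrArg (G.map r.op) (hx k)).trans ?_
    rw [map_map, hr₂]
  let P : ∀ q : κ × κ, Over S := fun q =>
    Over.mk (pullback.fst (w q.1).left (w q.2).left ≫ (W q.1).hom)
  let p₁ : ∀ q, P q ⟶ W q.1 := fun q => Over.homMk (pullback.fst (w q.1).left (w q.2).left) rfl
  let p₂ : ∀ q, P q ⟶ W q.2 := fun q => Over.homMk (pullback.snd (w q.1).left (w q.2).left) (by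
    show pullback.snd (w q.1).left (w q.2).left ≫ (W q.2).hom =
      pullback.fst (w q.1).left (w q.2).left ≫ (W q.1).hom
    rw [← Over.w (w q.1), ← Over.w (w q.2), ← Category.assoc, ← pullback.condition, Category.assoc])
  let pp : ∀ q, P q ⟶ D.obj m.left := fun q => p₁ q ≫ w q.1
  have hpp : ∀ q, p₂ q ≫ w q.2 = pp q := fun q =>
    Over.OverMorphism.ext pullback.condition.symm
  have hPa : ∀ q, IsAffine (P q).left := fun q => by
    haveI := hW q.1; haveI := hW q.2; haveI := hD m.left
    exact IsAffine.of_isPullback (IsPullback.of_hasPullback (w q.1).left (w q.2).left)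
  let n₀ : Over m.left := Over.mk (𝟙 m.left)
  have key : ∀ q, ∃ n : Over m.left,
      G.map (stageFst D (pp q) n ≫ p₁ q).op (η.app _ (A q.1)) =
        G.map (stageFst D (pp q) n ≫ p₂ q).op (η.app _ (A q.2)) := by
    intro q
    obtain ⟨n, e, he⟩ := exists_app_eq (i₀ := n₀) hP hF hG (η := η) (stageIsLimit D c (pp q) hc)
      (fun l => isAffine_stage D (pp q) (hPa q) hD l) (isAffine_limPt D c (pp q) (hPa q) hD hT)
      (F.map (stageFst D (pp q) n₀ ≫ p₁ q).op (A q.1))
      (F.map (stageFst D (pp q) n₀ ≫ p₂ q).op (A q.2)) (by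
        rw [app_map, app_map, map_map, map_map, stageCone_fst_assoc, stageCone_fst_assoc]
        exact (hA q.1 _ (limFst D c (pp q) ≫ p₁ q) (limSnd D c (pp q))
            (by rw [Category.assoc]; exact limFst_comp D c (pp q))).trans
          (hA q.2 _ (limFst D c (pp q) ≫ p₂ q) (limSnd D c (pp q))
            (by rw [Category.assoc, hpp]; exact limFst_comp D c (pp q))).symm)
    refine ⟨n, ?_⟩
    rw [app_map, app_map, map_map, map_map, stage_map_fst_assoc, stage_map_fst_assoc] at he
    exact he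
  choose n hn using key
  obtain ⟨j, hj⟩ := exists_common n
  let g : ∀ q, j ⟶ n q := fun q => (hj q).some
  let W' : κ → Over S := fun k => (stage D (w k)).obj j
  let w' : ∀ k, W' k ⟶ D.obj j.left := fun k => stageSnd D (w k) j
  have hcov' : ∀ y : (D.obj m.left).left, ∃ k, y ∈ Set.range (w k).left := fun y => by
    obtain ⟨k, z, hz⟩ := hcov ((D.map m.hom).left y)
    obtain ⟨z', -, hz'⟩ := Scheme.exists_preimage_of_isPullback
      (IsPullback.of_hasPullback (v k).left (D.map m.hom).left) z y hz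
    exact ⟨k, z', hz'⟩
  have hmem : Sieve.ofArrows W' w' ∈ top Pr S (D.obj j.left) := stageSnd_cover D hP w hw hcov' j
  let z : ∀ k, G.obj (op (W' k)) := fun k => G.map (stageFst D (w k) j).op (η.app _ (A k))
  have hz : Presieve.Arrows.Compatible G w' z := by
    intro k₁ k₂ T g₁ g₂ hg
    simp only [z]
    have hsq : (g₁ ≫ stageFst D (w k₁) j) ≫ w k₁ = (g₂ ≫ stageFst D (w k₂) j) ≫ w k₂ := by
      rw [Category.assoc, Category.assoc, stageFst_comp, stageFst_comp, reassoc_of% hg]
    obtain ⟨r, hr₁, hr₂⟩ : ∃ r : T ⟶ P (k₁, k₂),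
        r ≫ p₁ (k₁, k₂) = g₁ ≫ stageFst D (w k₁) j ∧ r ≫ p₂ (k₁, k₂) = g₂ ≫ stageFst D (w k₂) j :=
      ⟨Over.homMk (pullback.lift (g₁ ≫ stageFst D (w k₁) j).left (g₂ ≫ stageFst D (w k₂) j).left
          (congrArg (fun t => t.left) hsq))
          (by
            show pullback.lift _ _ _ ≫ pullback.fst _ _ ≫ (W k₁).hom = T.hom
            rw [pullback.lift_fst_assoc, Over.w]),
        Over.OverMorphism.ext (pullback.lift_fst _ _ _), Over.OverMorphism.ext (pullback.lift_snd _ _ _)⟩
    obtain ⟨r', hr', -⟩ := exists_stage_lift D (pp (k₁, k₂)) (l := n (k₁, k₂)) r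
      (g₁ ≫ w' k₁ ≫ D.map (g (k₁, k₂)).left) (by
        simp only [pp]
        rw [reassoc_of% hr₁, stageFst_comp, Category.assoc, Category.assoc, ← D.map_comp, Over.w])
    rw [map_map, map_map, ← hr₁, ← hr₂, ← hr', Category.assoc, Category.assoc,
      ← map_map G (stageFst D (pp (k₁, k₂)) (n (k₁, k₂)) ≫ p₁ (k₁, k₂)) r',
      ← map_map G (stageFst D (pp (k₁, k₂)) (n (k₁, k₂)) ≫ p₂ (k₁, k₂)) r', hn]
  obtain ⟨t, ht, -⟩ := (Presieve.isSheafFor_arrows_iff _ w').1
    ((Presieve.isSheafFor_iff_generate _).2 (((isSheaf_iff_isSheaf_of_type _ G).1 hG) _ hmem)) z hz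
  refine ⟨j.left, t, ext_of_mem hG ((top Pr S).pullback_stable (c.π.app j.left) hmem) fun T b hb => ?_⟩
  obtain ⟨_, p, _, ⟨k⟩, hp⟩ := hb
  rw [map_map, ← hp, ← map_map, ht k]
  simp only [z]
  rw [map_map, hA k T _ b (by
    rw [Category.assoc, stageFst_comp, ← Category.assoc]
    show (p ≫ w' k) ≫ _ = _
    rw [hp, Category.assoc, c.w])]
  rfl

/-- A sheaf receiving a locally bijective map from a limit preserving presheaf is limit preserving. -/
theorem isLimitPreserving_of_locallyBijective (hP : Good Pr) (hF : AlgSp.IsLimitPreserving F)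
    (hG : Presheaf.IsSheaf (top Pr S) G) (η : F ⟶ G) [Presheaf.IsLocallyInjective (top Pr S) η]
    [Presheaf.IsLocallySurjective (top Pr S) η] : AlgSp.IsLimitPreserving G := by
  intro I _ _ D c hc hD hT
  refine ⟨Types.FilteredColimit.isColimitOf' _ (G.mapCocone c.op) (fun x => ?_) (fun i x y h => ?_)⟩
  · obtain ⟨i, t, ht⟩ := exists_rep hP hF hG (η := η) hc hD hT x
    exact ⟨op i, t, ht.symm⟩
  · obtain ⟨j, a, ha⟩ := exists_eq hP hF hG (η := η) hc hD hT i.unop x y h
    exact ⟨op j, a.op, ha⟩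

/-- The sheafification of a limit preserving presheaf is limit preserving. -/
theorem isLimitPreserving_presheafToSheaf (hP : Good Pr)
    [HasWeakSheafify (top Pr S) (Type (u + 1))] (F : AlgSp.PSp S) (hF : AlgSp.IsLimitPreserving F) :
    AlgSp.IsLimitPreserving ((presheafToSheaf (top Pr S) (Type (u + 1))).obj F).obj :=
  isLimitPreserving_of_locallyBijective hP hF (Sheaf.cond _) (toSheafify (top Pr S) F)

end Groth.Agent.LimShf14
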