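import Groth.Agent.Lib.Descend19.Cover
import Groth.Prelude.Def_AlgSpRep

/-!
# Systems of schemes over `S` pulled back along a morphism to a member, and finite affine covers
-/

set_option autoImplicit false
set_option backward.isDefEq.respectTransparency false
set_option backward.defeqAttrib.useBackward true
set_option linter.style.haveILetI false

universe u

open CategoryTheory CategoryTheory.Limits AlgebraicGeometry Opposite

noncomputable section

namespace Groth.Agent.LimShf14

variable {S : Scheme.{u}}

/-- The properties needed of the class of morphisms defining the topology. -/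
structure Good (Pr : MorphismProperty Scheme.{u}) : Prop where
  mult : Pr.IsMultiplicative
  baseChange : Pr.IsStableUnderBaseChange
  of_openImm : ∀ {X Y : Scheme.{u}} (f : X ⟶ Y), IsOpenImmersion f → Pr f
  lfp : ∀ {X Y : Scheme.{u}} (f : X ⟶ Y), Pr f → LocallyOfFinitePresentation f
  flat : ∀ {X Y : Scheme.{u}} (f : X ⟶ Y), Pr f → Flat f
  desc : Descend19.DescendsLim Pr

variable {Pr : MorphismProperty Scheme.{u}}

theorem Good.isOpen_image (hP : Good Pr) {X Y : Scheme.{u}} (f : X ⟶ Y) (hf : Pr f) {U : Set X}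
    (hU : IsOpen U) : IsOpen (f '' U) := by
  haveI := hP.lfp f hf
  haveI := hP.flat f hf
  exact f.isOpenMap U hU

/-- The topology on schemes over `S` defined by jointly surjective families in `Pr`. -/
abbrev top (Pr : MorphismProperty Scheme.{u}) (S : Scheme.{u}) : GrothendieckTopology (Over S) :=
  QuotSh.J (Scheme.precoverage Pr) S

theorem ofArrows_mem (W : Over S) {ι : Type u} (V : ι → Over S) (g : ∀ a, V a ⟶ W)
    (hg : ∀ x : W.left, ∃ a, x ∈ Set.range (g a).left) (hPr : ∀ a, Pr (g a).left) :
    Sieve.ofArrows V g ∈ top Pr S W := by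
  rw [GrothendieckTopology.mem_over_iff]
  refine GrothendieckTopology.superset_covering _ ?_ (Precoverage.generate_mem_toGrothendieck
    ((Scheme.ofArrows_mem_precoverage_iff (X := fun a => (V a).left) (f := fun a => (g a).left)
      (P := Pr)).2 ⟨hg, hPr⟩))
  rw [Sieve.generate_le_iff]
  intro Y f hf
  obtain ⟨a⟩ := hf
  rw [Sieve.overEquiv_iff]
  exact ⟨V a, Over.homMk (𝟙 _) (by simp), g a, ⟨a⟩, by ext; simp⟩

/-- A covering sieve of an affine object contains a finite affine covering family. -/
theorem exists_finite_of_mem (hP : Good Pr) (W : Over S) [CompactSpace W.left] (R : Sieve W)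
    (hR : R ∈ top Pr S W) :
    ∃ (ι : Type u) (_ : Finite ι) (V : ι → Over S) (g : ∀ a, V a ⟶ W), (∀ a, R (g a)) ∧
      (∀ a, IsAffine (V a).left) ∧ (∀ a, Pr (g a).left) ∧
      ∀ x : W.left, ∃ a, x ∈ Set.range (g a).left := by
  haveI := hP.mult
  haveI := hP.baseChange
  rw [GrothendieckTopology.mem_over_iff,
    Precoverage.mem_toGrothendieck_iff_of_isStableUnderComposition] at hR
  obtain ⟨R', hR', hle⟩ := hR
  obtain ⟨κ, Y, f, rfl⟩ := R'.exists_eq_ofArrows
  obtain ⟨hsurj, hPrf⟩ := (Scheme.ofArrows_mem_precoverage_iff (P := Pr)).1 hR'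
  have key : ∀ x : W.left, ∃ (a : κ) (U : (Y a).Opens), IsAffineOpen U ∧ x ∈ f a '' (U : Set (Y a)) := by
    intro x
    obtain ⟨a, y, hy⟩ := hsurj x
    obtain ⟨U, hU, hyU, -⟩ :=
      exists_isAffineOpen_mem_and_subset (X := Y a) (x := y) (U := ⊤) trivial
    exact ⟨a, U, hU, y, hyU, hy⟩
  choose a U hU hx using key
  obtain ⟨s, hs⟩ := isCompact_univ.elim_finite_subcover
    (fun x => f (a x) '' (U x : Set (Y (a x))))
    (fun x => hP.isOpen_image _ (hPrf _) (U x).isOpen) (fun x _ => Set.mem_iUnion.2 ⟨x, hx x⟩)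
  refine ⟨(s : Set W.left), inferInstance,
    fun x => Over.mk ((U x.1).ι ≫ f (a x.1) ≫ W.hom),
    fun x => Over.homMk ((U x.1).ι ≫ f (a x.1)) (by simp), fun x => ?_, fun x => hU x.1,
    fun x => ?_, fun z => ?_⟩
  · have h := (Sieve.overEquiv W R).downward_closed (hle _ _ (Presieve.ofArrows.mk (a x.1))) (U x.1).ι
    rw [Sieve.overEquiv_iff] at h
    show R _
    have e := R.downward_closed h (Over.homMk (𝟙 _) (by simp) :
      Over.mk ((U x.1).ι ≫ f (a x.1) ≫ W.hom) ⟶ Over.mk (((U x.1).ι ≫ f (a x.1)) ≫ W.hom))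
    convert e using 1
    ext; simp
  · exact Pr.comp_mem _ _ (hP.of_openImm _ inferInstance) (hPrf _)
  · obtain ⟨x, hxs, y, hy, hy'⟩ := Set.mem_iUnion₂.1 (hs (Set.mem_univ z))
    exact ⟨⟨x, hxs⟩, ⟨y, hy⟩, hy'⟩

section Stage

variable {I : Type u} [SmallCategory I] [IsCofiltered I] (D : I ⥤ Over S) (c : Cone D) {i : I}
  {V : Over S} (v : V ⟶ D.obj i)

/-- The pullback of `v` to a stage above `i`. -/
def stage : Over i ⥤ Over S where
  obj l := Over.mk (pullback.fst v.left (D.map l.hom).left ≫ V.hom)
  map {l m} a := Over.homMk (pullback.lift (pullback.fst v.left (D.map l.hom).left)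
    (pullback.snd v.left (D.map l.hom).left ≫ (D.map a.left).left)
    (by rw [Category.assoc, ← Over.comp_left, ← D.map_comp, Over.w]; exact pullback.condition))
    (by simp)
  map_id l := by ext; apply pullback.hom_ext <;> simp
  map_comp a b := by ext; apply pullback.hom_ext <;> simp

/-- The projection of a stage to `V`. -/
def stageFst (l : Over i) : (stage D v).obj l ⟶ V :=
  Over.homMk (pullback.fst v.left (D.map l.hom).left) rfl

/-- The projection of a stage to the base system. -/
def stageSnd (l : Over i) : (stage D v).obj l ⟶ D.obj l.left :=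
  Over.homMk (pullback.snd v.left (D.map l.hom).left) (by
    show pullback.snd v.left (D.map l.hom).left ≫ (D.obj l.left).hom =
      pullback.fst v.left (D.map l.hom).left ≫ V.hom
    rw [← Over.w (D.map l.hom), ← Category.assoc, ← pullback.condition, Category.assoc, Over.w])

@[reassoc]
theorem stageFst_comp (l : Over i) : stageFst D v l ≫ v = stageSnd D v l ≫ D.map l.hom :=
  Over.OverMorphism.ext pullback.condition

@[reassoc (attr := simp)]
theorem stage_map_fst {l m : Over i} (a : l ⟶ m) :
    (stage D v).map a ≫ stageFst D v m = stageFst D v l :=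
  Over.OverMorphism.ext (pullback.lift_fst _ _ _)

@[reassoc (attr := simp)]
theorem stage_map_snd {l m : Over i} (a : l ⟶ m) :
    (stage D v).map a ≫ stageSnd D v m = stageSnd D v l ≫ D.map a.left :=
  Over.OverMorphism.ext (pullback.lift_snd _ _ _)

theorem stage_hom_ext {T : Over S} {l : Over i} {p q : T ⟶ (stage D v).obj l}
    (h₁ : p ≫ stageFst D v l = q ≫ stageFst D v l) (h₂ : p ≫ stageSnd D v l = q ≫ stageSnd D v l) :
    p = q :=
  Over.OverMorphism.ext (pullback.hom_ext (congrArg (fun t => t.left) h₁) (congrArg (fun t => t.left) h₂))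

theorem exists_stage_lift {T : Over S} {l : Over i} (p : T ⟶ V) (b : T ⟶ D.obj l.left)
    (w : p ≫ v = b ≫ D.map l.hom) :
    ∃ r : T ⟶ (stage D v).obj l, r ≫ stageFst D v l = p ∧ r ≫ stageSnd D v l = b :=
  ⟨Over.homMk (pullback.lift p.left b.left (congrArg (fun t => t.left) w))
      (by simp [stage]),
    Over.OverMorphism.ext (pullback.lift_fst _ _ _), Over.OverMorphism.ext (pullback.lift_snd _ _ _)⟩

/-- The pullback of `v` to the vertex. -/
def limPt : Over S := Over.mk (pullback.fst v.left (c.π.app i).left ≫ V.hom)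

/-- The projection of the limit stage to `V`. -/
def limFst : limPt D c v ⟶ V := Over.homMk (pullback.fst v.left (c.π.app i).left) rfl

/-- The projection of the limit stage to the vertex. -/
def limSnd : limPt D c v ⟶ c.pt :=
  Over.homMk (pullback.snd v.left (c.π.app i).left) (by
    show pullback.snd v.left (c.π.app i).left ≫ c.pt.hom = pullback.fst v.left (c.π.app i).left ≫ V.hom
    have h : (c.π.app i).left ≫ (D.obj i).hom = c.pt.hom := Over.w (c.π.app i)
    rw [← h, ← Category.assoc, ← pullback.condition, Category.assoc, Over.w])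

@[reassoc]
theorem limFst_comp : limFst D c v ≫ v = limSnd D c v ≫ c.π.app i :=
  Over.OverMorphism.ext pullback.condition

theorem exists_lim_lift {T : Over S} (p : T ⟶ V) (b : T ⟶ c.pt) (w : p ≫ v = b ≫ c.π.app i) :
    ∃ r : T ⟶ limPt D c v, r ≫ limFst D c v = p ∧ r ≫ limSnd D c v = b :=
  ⟨Over.homMk (pullback.lift p.left b.left (congrArg (fun t => t.left) w))
      (by simp [limPt]),
    Over.OverMorphism.ext (pullback.lift_fst _ _ _), Over.OverMorphism.ext (pullback.lift_snd _ _ _)⟩

/-- The map of the limit stage to a stage. -/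
def limMap (l : Over i) : limPt D c v ⟶ (stage D v).obj l :=
  Over.homMk (pullback.lift (pullback.fst v.left (c.π.app i).left)
    (pullback.snd v.left (c.π.app i).left ≫ (c.π.app l.left).left)
    (by rw [Category.assoc, ← Over.comp_left, c.w]; exact pullback.condition))
    (by simp [stage, limPt])

theorem limMap_fst (l : Over i) : limMap D c v l ≫ stageFst D v l = limFst D c v :=
  Over.OverMorphism.ext (pullback.lift_fst _ _ _)

theorem limMap_snd (l : Over i) :
    limMap D c v l ≫ stageSnd D v l = limSnd D c v ≫ c.π.app l.left :=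
  Over.OverMorphism.ext (pullback.lift_snd _ _ _)

/-- The limit cone of the stages. -/
def stageCone : Cone (stage D v) where
  pt := limPt D c v
  π :=
    { app := fun l => limMap D c v l
      naturality := fun l m a => by
        dsimp
        rw [Category.id_comp]
        apply stage_hom_ext
        · rw [Category.assoc, stage_map_fst, limMap_fst, limMap_fst]
        · rw [Category.assoc, stage_map_snd, limMap_snd, reassoc_of% (limMap_snd D c v l), c.w] }

@[reassoc (attr := simp)]
theorem stageCone_fst (l : Over i) :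
    (stageCone D c v).π.app l ≫ stageFst D v l = limFst D c v :=
  Over.OverMorphism.ext (pullback.lift_fst _ _ _)

@[reassoc (attr := simp)]
theorem stageCone_snd (l : Over i) :
    (stageCone D c v).π.app l ≫ stageSnd D v l = limSnd D c v ≫ c.π.app l.left :=
  Over.OverMorphism.ext (pullback.lift_snd _ _ _)

/-- The stages have the pullback to the vertex as limit. -/
def stageIsLimit (hc : IsLimit ((Over.forget S).mapCone c)) :
    IsLimit ((Over.forget S).mapCone (stageCone D c v)) :=
  IsLimit.ofIsoLimit
    (Descend.pbIsLimit (Over.forget i ⋙ D ⋙ Over.forget S) (Descend.overT (D ⋙ Over.forget S) i)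
      v.left (((Over.forget S).mapCone c).whisker (Over.forget i)) (q := (c.π.app i).left)
      (fun l => congrArg (fun t => t.left) (c.w l.hom))
      (IsPullback.of_hasPullback v.left (c.π.app i).left)
      ((Functor.Initial.isLimitWhiskerEquiv (Over.forget i) _).symm hc))
    (Cone.ext (Iso.refl _) (fun l => by
      apply pullback.hom_ext <;> simp [stageCone, limMap, limPt, stage, Descend.pbCone, Descend.overT]))

theorem isAffine_limPt (hV : IsAffine V.left) (hD : ∀ i, IsAffine (D.obj i).left)
    (hc : IsAffine c.pt.left) : IsAffine (limPt D c v).left := by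
  haveI := hD i
  haveI : IsAffine (((Functor.const I).obj c.pt).obj i).left := hc
  exact IsAffine.of_isPullback (IsPullback.of_hasPullback v.left (c.π.app i).left)

theorem isAffine_stage (hV : IsAffine V.left) (hD : ∀ i, IsAffine (D.obj i).left) (l : Over i) :
    IsAffine ((stage D v).obj l).left := by
  haveI := hD i
  haveI := hD l.left
  exact IsAffine.of_isPullback (IsPullback.of_hasPullback v.left (D.map l.hom).left)

theorem stageSnd_cover (hP : Good Pr) {ι : Type u} {W : ι → Over S} (w : ∀ a, W a ⟶ D.obj i)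
    (hw : ∀ a, Pr (w a).left) (hcov : ∀ x : (D.obj i).left, ∃ a, x ∈ Set.range (w a).left)
    (l : Over i) :
    Sieve.ofArrows (fun a => (stage D (w a)).obj l) (fun a => stageSnd D (w a) l) ∈
      top Pr S (D.obj l.left) := by
  refine ofArrows_mem _ _ _ (fun x => ?_) (fun a => ?_)
  · obtain ⟨a, y, hy⟩ := hcov ((D.map l.hom).left x)
    obtain ⟨z, -, hz⟩ := Scheme.exists_preimage_of_isPullback
      (IsPullback.of_hasPullback (w a).left (D.map l.hom).left) y x hy
    exact ⟨a, z, hz⟩
  · haveI := hP.baseChange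
    exact MorphismProperty.pullback_snd _ _ (hw a)

end Stage

/-- A covering sieve of the vertex of a limit of affine schemes contains the pullback of a finite
affine covering of some member. -/
theorem exists_stage_cover (hP : Good Pr) {I : Type u} [SmallCategory I] [IsCofiltered I]
    (D : I ⥤ Over S) (c : Cone D) (hc : IsLimit ((Over.forget S).mapCone c))
    (hD : ∀ i, IsAffine (D.obj i).left) (hT : IsAffine c.pt.left)
    (R : Sieve c.pt) (hR : R ∈ top Pr S c.pt) :
    ∃ (i : I) (ι : Type u) (_ : Finite ι) (V : ι → Over S) (v : ∀ a, V a ⟶ D.obj i),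
      (∀ a, IsAffine (V a).left) ∧ (∀ a, Pr (v a).left) ∧
      (∀ x : (D.obj i).left, ∃ a, x ∈ Set.range (v a).left) ∧
      ∀ a, R (limSnd D c (v a)) := by
  haveI := hP.mult
  haveI := hP.baseChange
  haveI : ∀ i : I, IsAffine ((D ⋙ Over.forget S).obj i) := hD
  obtain ⟨κ, _, U, u, hRu, hUa, hu, hcov⟩ := exists_finite_of_mem hP c.pt R hR
  haveI : ∀ (i j : I) (t : i ⟶ j), IsAffineHom ((D ⋙ Over.forget S).map t) :=
    fun i j t => inferInstance
  haveI : ∀ a, LocallyOfFinitePresentation (u a).left := fun a => hP.lfp _ (hu a)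
  haveI : IsAffine ((Over.forget S).mapCone c).pt := hT
  haveI : ∀ a, IsAffine ((fun a => (U a).left) a) := hUa
  obtain ⟨i₀⟩ := IsCofiltered.nonempty (C := I)
  obtain ⟨i, n, V', v', a, e, h1, h2, h3⟩ := Descend19.exists_cover (Pr := Pr) hP.desc hc i₀
    (fun a => (U a).left) (fun a => (u a).left) hu
    (fun a => by simpa [Set.image_univ] using hP.isOpen_image _ (hu a) isOpen_univ)
    (fun x => by obtain ⟨a, y, hy⟩ := hcov x; exact ⟨a, y, hy⟩)
  let W : ULift.{u} (Fin n) → Over S := fun j => Over.mk (v' j.down ≫ (D.obj i).hom)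
  let w : ∀ j, W j ⟶ D.obj i := fun j => Over.homMk (v' j.down) rfl
  obtain ⟨ι, hι, V, v, hv, hVa, hvP, hvc⟩ := exists_finite_of_mem hP (D.obj i)
    (Sieve.ofArrows W w) (ofArrows_mem _ W w (fun x => by
      obtain ⟨j, y, hy⟩ := h2 x; exact ⟨⟨j⟩, y, hy⟩) (fun j => (h1 j.down).1))
  refine ⟨i, ι, hι, V, v, hVa, hvP, hvc, fun k => ?_⟩
  obtain ⟨_, r, _, ⟨j⟩, hr⟩ := hv k
  have hcomm : ((limFst D c (v k)).left ≫ r.left) ≫ v' j.down =
      (limSnd D c (v k)).left ≫ ((Over.forget S).mapCone c).π.app i := by
    have h1 : r.left ≫ v' j.down = (v k).left := congrArg (fun t => t.left) hr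
    rw [Category.assoc, h1]
    exact congrArg (fun t => t.left) (limFst_comp D c (v k))
  let z := (h3 j.down).lift ((limFst D c (v k)).left ≫ r.left) (limSnd D c (v k)).left hcomm
  have hz : z ≫ (u (a j.down)).left = (limSnd D c (v k)).left := (h3 j.down).lift_snd _ _ _
  have hzw : z ≫ (U (a j.down)).hom = (limPt D c (v k)).hom := by
    rw [← Over.w (u (a j.down)), ← Category.assoc, hz, Over.w]
  have : limSnd D c (v k) = (Over.homMk z hzw : limPt D c (v k) ⟶ U (a j.down)) ≫ u (a j.down) :=
    Over.OverMorphism.ext hz.symm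
  rw [this]
  exact R.downward_closed (hRu _) _

end Groth.Agent.LimShf14
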