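import Groth.Agent.Lib.LimShf14.Sheaf
import Groth.Agent.Lib.Descend19.Flat
import Mathlib.AlgebraicGeometry.Sites.Fpqc

/-!
# The fppf and étale topologies satisfy `Good`
-/

set_option autoImplicit false
set_option backward.isDefEq.respectTransparency false
set_option backward.defeqAttrib.useBackward true
set_option linter.style.haveILetI false

universe u

open CategoryTheory CategoryTheory.Limits AlgebraicGeometry

namespace Groth.Agent.LimShf14

theorem good_fppf : Good (@Flat ⊓ @LocallyOfFinitePresentation : MorphismProperty Scheme.{u}) where
  mult :=
    { id_mem := fun X => ⟨MorphismProperty.id_mem (W := @Flat) X, (inferInstance : LocallyOfFinitePresentation (𝟙 X))⟩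
      comp_mem := fun _ _ h₁ h₂ => ⟨MorphismProperty.comp_mem (W := @Flat) _ _ h₁.1 h₂.1,
        (by haveI := h₁.2; haveI := h₂.2; exact locallyOfFinitePresentation_comp _ _)⟩ }
  baseChange := inferInstance
  of_openImm f hf := by haveI := hf; exact ⟨inferInstance, inferInstance⟩
  lfp _ hf := hf.2
  flat _ hf := hf.1
  desc := by
    intro J _ _ S X E t _ _ _ f _ _ _ e q P p g he hq hP hg
    haveI : CompactSpace X := QuasiCompact.compactSpace_of_compactSpace f
    haveI := hg.1
    obtain ⟨j, hj⟩ := Descend19.exists_flat (t := t) he hq hP
    exact ⟨j, hj, MorphismProperty.pullback_snd _ _ inferInstance⟩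

theorem good_etale : Good (@Etale : MorphismProperty Scheme.{u}) where
  mult := inferInstance
  baseChange := inferInstance
  of_openImm f hf := by haveI := hf; exact (inferInstance : Etale f)
  lfp f hf := by haveI := hf; infer_instance
  flat f hf := by haveI := hf; infer_instance
  desc := by
    intro J _ _ S X E t _ _ _ f _ _ _ e q P p g he hq hP hg
    haveI : CompactSpace X := QuasiCompact.compactSpace_of_compactSpace f
    haveI := hg
    exact Descend.exists_etale (t := t) he hq hP

end Groth.Agent.LimShf14
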